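import Cfsg.Agent.H807.MaxPSL.Tools
import Cfsg.Agent.S1008
import Cfsg.Agent.S5940
import Cfsg.Agent.S0494
import Cfsg.Agent.S0243
import Cfsg.Agent.S0249

/-!
# Classes of maximal subgroups of simple groups of order 60 and 168 (for S5906, S5907)
-/

set_option autoImplicit false
set_option linter.style.haveILetI false

namespace Cfsg.Agent.H807.MaxPSL

open Matrix Cfsg.Agent.H937 Cfsg.Agent.H940.MaxCls
open Cfsg.Agent.ClassicalGeometry.PSL2Basic
open Cfsg.Agent.ClassicalGeometry.KleinCount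

/-! ### General -/

section general

variable {G : Type*} [Group G]

theorem iso_of_map_eq {A B : Subgroup G} {g : G} (h : Subgroup.map (MulAut.conj g).toMonoidHom A = B) :
    Nonempty (A ≃* B) :=
  ⟨(Subgroup.equivMapOfInjective A _ (MulAut.conj g).injective).trans (MulEquiv.subgroupCongr h)⟩

theorem card_of_map_eq {A B : Subgroup G} {g : G} (h : Subgroup.map (MulAut.conj g).toMonoidHom A = B) :
    Nat.card A = Nat.card B := by
  obtain ⟨e⟩ := iso_of_map_eq h
  exact Nat.card_congr e.toEquiv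

/-- three classes -/
theorem cls_three {A B C : Subgroup G} (hA : IsCoatom A) (hB : IsCoatom B) (hC : IsCoatom C)
    (hAB : ∀ g : G, Subgroup.map (MulAut.conj g).toMonoidHom A ≠ B)
    (hAC : ∀ g : G, Subgroup.map (MulAut.conj g).toMonoidHom A ≠ C)
    (hBC : ∀ g : G, Subgroup.map (MulAut.conj g).toMonoidHom B ≠ C)
    (h : ∀ K : Subgroup G, IsCoatom K → ∃ g : G, Subgroup.map (MulAut.conj g).toMonoidHom A = K ∨
      Subgroup.map (MulAut.conj g).toMonoidHom B = K ∨ Subgroup.map (MulAut.conj g).toMonoidHom C = K) :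
    Cls 3 G := by
  refine Cls.of_mem ![A, B, C] ?_ ?_ ?_
  · intro i
    fin_cases i
    · exact hA
    · exact hB
    · exact hC
  · intro i j hij
    fin_cases i <;> fin_cases j <;> first | exact absurd hij (by decide) | exact hAB | exact hAC | exact hBC
  · intro K hK
    obtain ⟨g, h | h | h⟩ := h K hK
    · exact ⟨0, g, h⟩
    · exact ⟨1, g, h⟩
    · exact ⟨2, g, h⟩

/-- four classes -/
theorem cls_four {A B C D : Subgroup G} (hA : IsCoatom A) (hB : IsCoatom B) (hC : IsCoatom C) (hD : IsCoatom D)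
    (hAB : ∀ g : G, Subgroup.map (MulAut.conj g).toMonoidHom A ≠ B)
    (hAC : ∀ g : G, Subgroup.map (MulAut.conj g).toMonoidHom A ≠ C)
    (hAD : ∀ g : G, Subgroup.map (MulAut.conj g).toMonoidHom A ≠ D)
    (hBC : ∀ g : G, Subgroup.map (MulAut.conj g).toMonoidHom B ≠ C)
    (hBD : ∀ g : G, Subgroup.map (MulAut.conj g).toMonoidHom B ≠ D)
    (hCD : ∀ g : G, Subgroup.map (MulAut.conj g).toMonoidHom C ≠ D)
    (h : ∀ K : Subgroup G, IsCoatom K → ∃ g : G, Subgroup.map (MulAut.conj g).toMonoidHom A = K ∨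
      Subgroup.map (MulAut.conj g).toMonoidHom B = K ∨ Subgroup.map (MulAut.conj g).toMonoidHom C = K ∨
      Subgroup.map (MulAut.conj g).toMonoidHom D = K) :
    Cls 4 G := by
  refine Cls.of_mem ![A, B, C, D] ?_ ?_ ?_
  · intro i
    fin_cases i
    · exact hA
    · exact hB
    · exact hC
    · exact hD
  · intro i j hij
    fin_cases i <;> fin_cases j <;>
      first | exact absurd hij (by decide) | exact hAB | exact hAC | exact hAD | exact hBC | exact hBD | exact hCD
  · intro K hK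
    obtain ⟨g, h | h | h | h⟩ := h K hK
    · exact ⟨0, g, h⟩
    · exact ⟨1, g, h⟩
    · exact ⟨2, g, h⟩
    · exact ⟨3, g, h⟩

/-- simple groups of order 168 -/
theorem cls_168 [Finite G] [IsSimpleGroup G] (h : Nat.card G = 168) : Cls 3 G := by
  obtain ⟨h1, h2, M₁, M₂, hM₁, hM₂, e₁, e₂, hne, h3⟩ := Cfsg.Agent.S1008.result h
  have hc : ∀ {M : Subgroup G}, Nonempty (M ≃* Equiv.Perm (Fin 4)) → Nat.card M = 24 := by
    rintro M ⟨e⟩
    rw [Nat.card_congr e.toEquiv, card_S4]
  obtain ⟨M, hM, hMc⟩ : ∃ M : Subgroup G, IsCoatom M ∧ Nat.card M = 21 := by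
    haveI : Fact (Nat.Prime 7) := ⟨by norm_num⟩
    obtain ⟨x, hx⟩ := exists_prime_orderOf_dvd_card' (G := G) 7 (by rw [h]; norm_num)
    have hxt : Subgroup.zpowers x ≠ ⊤ := by
      intro hxt
      have h4 := Nat.card_zpowers x
      rw [hxt, hx, Subgroup.card_top, h] at h4
      omega
    obtain ⟨M, hM, hxM⟩ := exists_coatom_ge hxt
    refine ⟨M, hM, ?_⟩
    rcases h1 M hM with e | h4
    · have h5 := Subgroup.card_dvd_of_le hxM
      rw [Nat.card_zpowers, hx, hc e] at h5
      omega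
    · exact h4.1
  refine cls_three hM hM₁ hM₂ (fun g hg => ?_) (fun g hg => ?_) (fun g hg => hne g hg.symm) fun K hK => ?_
  · have := card_of_map_eq hg
    rw [hMc, hc e₁] at this
    omega
  · have := card_of_map_eq hg
    rw [hMc, hc e₂] at this
    omega
  · rcases h1 K hK with e | h4
    · obtain ⟨g, h5 | h5⟩ := h3 K hK e
      · exact ⟨g, Or.inr (Or.inl h5.symm)⟩
      · exact ⟨g, Or.inr (Or.inr h5.symm)⟩
    · obtain ⟨g, h5⟩ := h2 M K hM hK hMc h4.1
      exact ⟨g, Or.inl h5.symm⟩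

end general

variable {F : Type*} [Field F]

/-- `PSL₂(7)` -/
theorem odd_three_seven [Fintype F] (hF : Fintype.card F = 7) :
    Cls 3 (Matrix.ProjectiveSpecialLinearGroup (Fin 2) F) := by
  haveI : IsSimpleGroup (Matrix.ProjectiveSpecialLinearGroup (Fin 2) F) :=
    Matrix.ProjectiveSpecialLinearGroup.rank_two_simple (by rw [Nat.card_eq_fintype_card]; omega)
  apply cls_168
  have h1 := Cfsg.Agent.S0243.result hF 2 le_rfl
  rw [Fin.prod_univ_two] at h1
  norm_num at h1
  omega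

/-- `PSL₃(2)` -/
theorem psl3_two (F : Type*) [Field F] [Fintype F] (hF : Fintype.card F = 2) :
    Cls 3 (Matrix.ProjectiveSpecialLinearGroup (Fin 3) F) := by
  haveI : IsSimpleGroup (Matrix.ProjectiveSpecialLinearGroup (Fin 3) F) := Cfsg.Agent.S0249.result 3 le_rfl
  apply cls_168
  have h1 := Cfsg.Agent.S0243.result hF 3 (by norm_num)
  rw [Fin.prod_univ_three] at h1
  norm_num at h1
  omega

/-- `PSL₂(5)` -/
theorem odd_three_five' [Fintype F] (hF : Fintype.card F = 5) : Cls 3 (PSL F) := by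
  have hodd : Odd (Fintype.card F) := by rw [hF]; decide
  haveI : Fact (Nat.Prime 5) := ⟨by norm_num⟩
  haveI : CharP F 5 := charP_of_card_eq_prime_pow (f := 1) (by rw [hF, pow_one])
  obtain ⟨B, hB, hBt, hBc⟩ := exists_borel hodd (by omega)
  obtain ⟨D, hD, hDc, hDe⟩ := exists_Dp hodd (by omega) (by omega)
  obtain ⟨A, hA, hAe⟩ : ∃ A : Subgroup (PSL F), IsCoatom A ∧ Nonempty (A ≃* alternatingGroup (Fin 4)) :=
    Cfsg.Agent.S5940.result (F := F) 5 hF (by norm_num) (by norm_num) (by norm_num)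
  have hAc : Nat.card A = 12 := by
    obtain ⟨e⟩ := hAe
    rw [Nat.card_congr e.toEquiv, card_A4]
  rw [hF] at hBc hDc
  have hns : ¬ IsSquare (2 : F) := by
    rw [FiniteField.isSquare_two_iff, hF]
    norm_num
  -- the types
  have key : ∀ K : Subgroup (PSL F), IsCoatom K →
      (Nat.card K = 10 ∧ ∃ b, cj b (K.map (ta : PSL F →* PGL F)) = BP F ⊓ LL F) ∨
      (Nat.card K = 6 ∧ ∃ (b : PGL F) (t d : F), d ≠ 0 ∧ t ^ 2 - 4 * d ≠ 0 ∧
        K.map (ta : PSL F →* PGL F) = cj b (NP t d) ⊓ LL F) ∨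
      (Nat.card K = 12 ∧ ∃ V : Subgroup (PSL F), IsKleinFour V ∧ K = nrm V) := by
    intro K hK
    rcases odd_psl_conj 5 hodd (by omega) K hK with h | ⟨h, -, h'⟩ | ⟨k, b, hk, -⟩ | ⟨k, r, b, hr, hr', hk, -⟩ |
      ⟨h, -⟩ | ⟨-, -, -, ⟨e⟩, h⟩ | ⟨-, h, -⟩
    · left
      refine ⟨?_, h⟩
      obtain ⟨b, hb⟩ := h
      have h1 := two_card_B hodd
      rw [← hb, card_cj, card_map_ta, hF] at h1
      omega
    · right; left
      refine ⟨?_, h'⟩
      rw [hF] at h
      omega
    · exfalso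
      rw [Nat.card_eq_fintype_card, hF] at hk
      generalize Nat.card k = z at hk
      have : z < 3 := by
        by_contra hz
        have h9 : 3 ^ 2 ≤ z ^ 2 := Nat.pow_le_pow_left (by omega) 2
        omega
      interval_cases z <;> omega
    · exfalso
      rw [Nat.card_eq_fintype_card, hF] at hk
      have h1 := (Nat.Prime.eq_one_of_pow (n := r) (x := Nat.card k) (by rw [← hk]; norm_num))
      exact hr.one_lt.ne' h1
    · exfalso
      rw [hF] at h
      omega
    · right; right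
      exact ⟨by rw [Nat.card_congr e.toEquiv, card_A4], h⟩
    · exfalso
      omega
  have conj : ∀ K K' : Subgroup (PSL F), IsCoatom K → IsCoatom K' → Nat.card K = Nat.card K' →
      ∃ g : PSL F, Subgroup.map (MulAut.conj g).toMonoidHom K = K' := by
    intro K K' hK hK' hc
    rcases key K hK with ⟨h1, b, hb⟩ | ⟨h1, h⟩ | ⟨h1, V, hV, h⟩ <;>
    rcases key K' hK' with ⟨h1', b', hb'⟩ | ⟨h1', h'⟩ | ⟨h1', V', hV', h'⟩ <;> first | omega | skip
    · exact conj_of_LC (LC_borel hodd hb hb')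
    · exact conj_of_LC (LC_tor hodd (by omega) h h' (by rw [card_map_ta, card_map_ta, hc]))
    · obtain ⟨a, ha⟩ := exists_cj_eq_of_not_square hodd hns hV hV'
      refine ⟨a, ?_⟩
      rw [h, h', ← ha, ← cj_nrm]
      rfl
  refine cls_three hB hD hA (fun g hg => ?_) (fun g hg => ?_) (fun g hg => ?_) fun K hK => ?_
  · have := card_of_map_eq hg
    omega
  · have := card_of_map_eq hg
    omega
  · have := card_of_map_eq hg
    omega
  · rcases key K hK with ⟨h1, -⟩ | ⟨h1, -⟩ | ⟨h1, -⟩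
    · obtain ⟨g, hg⟩ := conj B K hB hK (by omega)
      exact ⟨g, Or.inl hg⟩
    · obtain ⟨g, hg⟩ := conj D K hD hK (by omega)
      exact ⟨g, Or.inr (Or.inl hg)⟩
    · obtain ⟨g, hg⟩ := conj A K hA hK (by omega)
      exact ⟨g, Or.inr (Or.inr hg)⟩

/-- `PSL₂(5)` -/
theorem odd_three_five [Fintype F] (hF : Fintype.card F = 5) :
    Cls 3 (Matrix.ProjectiveSpecialLinearGroup (Fin 2) F) := odd_three_five' hF

/-- `A₅` -/
theorem alt5 : Cls 3 (alternatingGroup (Fin 5)) := by
  haveI : Fact (Nat.Prime 5) := ⟨by norm_num⟩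
  haveI : IsSimpleGroup (Matrix.ProjectiveSpecialLinearGroup (Fin 2) (ZMod 5)) :=
    Matrix.ProjectiveSpecialLinearGroup.rank_two_simple (by rw [Nat.card_eq_fintype_card, ZMod.card]; omega)
  have h1 := Cfsg.Agent.S0243.result (F := ZMod 5) (ZMod.card 5) 2 le_rfl
  rw [Fin.prod_univ_two] at h1
  norm_num at h1
  have h2 : Nat.card (Matrix.ProjectiveSpecialLinearGroup (Fin 2) (ZMod 5)) = 60 := by
    rw [Nat.card_eq_fintype_card]
    omega
  obtain ⟨e⟩ := Cfsg.Agent.S0494.result (G := Matrix.ProjectiveSpecialLinearGroup (Fin 2) (ZMod 5)) h2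
  exact (odd_three_five (F := ZMod 5) (ZMod.card 5)).of_mulEquiv e

end Cfsg.Agent.H807.MaxPSL
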