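import Cfsg.Agent.H807.MaxPSL.Five
import Cfsg.Agent.H807.MaxPSL.Small

/-!
# `PSL₂(q)`, `q` odd: four classes of maximal subgroups (task of helper940, S5906, S5907)
-/

set_option autoImplicit false
set_option linter.style.haveILetI false

namespace Cfsg.Agent.H807.MaxPSL

open Matrix Cfsg.Agent.H937 Cfsg.Agent.H940.MaxCls
open Cfsg.Agent.ClassicalGeometry.PSL2Basic
open Cfsg.Agent.ClassicalGeometry.KleinCount

theorem has3_A4 {G : Type*} [Group G] {M : Subgroup G} (e : Nonempty (M ≃* alternatingGroup (Fin 4))) : Has3 M := by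
  obtain ⟨e⟩ := e
  have py_mem : py ∈ alternatingGroup (Fin 4) := by
    rw [Equiv.Perm.mem_alternatingGroup]; decide
  refine Has3.of_equiv e.symm (x := ⟨px, px_mem⟩) (y := ⟨py, py_mem⟩) (Subtype.ext px_cube)
    (Subtype.ext py_cube) ?_
  intro h
  exact absurd (congrArg Subtype.val h) pxy_ne

variable {F : Type*} [Field F]

/-- the torus type -/
def Tor (K : Subgroup (PSL F)) : Prop :=
  ∃ (b : PGL F) (t d : F), d ≠ 0 ∧ t ^ 2 - 4 * d ≠ 0 ∧ K.map (ta : PSL F →* PGL F) = cj b (NP t d) ⊓ LL F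

theorem Tor.conj [Fintype F] (hodd : Odd (Fintype.card F)) (h3 : 3 < Fintype.card F) {K K' : Subgroup (PSL F)}
    (h : Tor K) (h' : Tor K') (hc : Nat.card K = Nat.card K') :
    ∃ g : PSL F, Subgroup.map (MulAut.conj g).toMonoidHom K = K' :=
  conj_of_LC (LC_tor hodd h3 h h' (by rw [card_map_ta, card_map_ta, hc]))

/-- the Borel type -/
def Bor (K : Subgroup (PSL F)) : Prop := ∃ b, cj b (K.map (ta : PSL F →* PGL F)) = BP F ⊓ LL F

theorem Bor.conj [Fintype F] (hodd : Odd (Fintype.card F)) {K K' : Subgroup (PSL F)}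
    (h : Bor K) (h' : Bor K') : ∃ g : PSL F, Subgroup.map (MulAut.conj g).toMonoidHom K = K' := by
  obtain ⟨b, hb⟩ := h
  obtain ⟨b', hb'⟩ := h'
  exact conj_of_LC (LC_borel hodd hb hb')

theorem Bor.card [Fintype F] (hodd : Odd (Fintype.card F)) {K : Subgroup (PSL F)}
    (h : Bor K) : 2 * Nat.card K = Fintype.card F * (Fintype.card F - 1) := by
  obtain ⟨b, hb⟩ := h
  have h1 := two_card_B hodd
  rwa [← hb, card_cj, card_map_ta] at h1

/-! ### Prime powers -/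

theorem odd_four_pow' {p r m : ℕ} [Fintype F] (hp : p.Prime) (h2 : p ≠ 2) (hr : r.Prime) (hr2 : r ≠ 2)
    (hm : 1 ≤ m) (hF : Fintype.card F = p ^ (r ^ m)) : Cls 4 (PSL F) := by
  haveI : Fact p.Prime := ⟨hp⟩
  have hpodd : Odd p := hp.odd_of_ne_two h2
  have hodd : Odd (Fintype.card F) := by rw [hF]; exact hpodd.pow
  haveI : CharP F p := charP_of_card_eq_prime_pow hF
  have hrodd : Odd r := hr.odd_of_ne_two hr2
  have hp3 : 3 ≤ p := by
    have := hp.two_le
    omega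
  have hr3 : 3 ≤ r := by
    have := hr.two_le
    omega
  have hf3 : 3 ≤ r ^ m := by
    calc 3 ≤ r ^ 1 := by rw [pow_one]; exact hr3
      _ ≤ r ^ m := Nat.pow_le_pow_right (by omega) hm
  have hfodd : Odd (r ^ m) := hrodd.pow
  have h27 : 27 ≤ Fintype.card F := by
    rw [hF]
    calc 27 = 3 ^ 3 := by norm_num
      _ ≤ p ^ 3 := Nat.pow_le_pow_left hp3 3
      _ ≤ p ^ (r ^ m) := Nat.pow_le_pow_right (by omega) hf3
  have hmul : 27 * (Fintype.card F - 1) ≤ Fintype.card F * (Fintype.card F - 1) :=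
    Nat.mul_le_mul_right _ h27
  have hFg : Nat.card F = (p ^ (r ^ (m - 1))) ^ r := by
    rw [Nat.card_eq_fintype_card, hF, ← pow_mul]
    congr 1
    rw [← pow_succ]
    congr 1
    omega
  obtain ⟨k₀, hk₀⟩ := exists_subfield_card (F := F) (p := p) (n := r ^ (m - 1))
    (pow_ne_zero _ (by omega)) hFg
  have hFk₀ : Nat.card F = Nat.card k₀ ^ r := by rw [hk₀, hFg]
  have hk₀pos : 0 < Nat.card k₀ := Nat.card_pos
  have hle : Nat.card k₀ ^ 3 ≤ Fintype.card F := by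
    rw [← Nat.card_eq_fintype_card, hFk₀]
    exact Nat.pow_le_pow_right hk₀pos hr3
  obtain ⟨B, hB, -, hBc⟩ := exists_borel hodd (by omega)
  obtain ⟨D, hD, hDc, -⟩ := exists_Dp hodd (by omega) (by omega)
  obtain ⟨E, hE, hEc, -⟩ := exists_Dm hodd (by omega)
  obtain ⟨A, hA, hAc⟩ := exists_PS hodd hr hr2 hFk₀
  -- the orders of subfields
  have hsub : ∀ k : Subfield F, ∃ a : ℕ, Nat.card k = p ^ a := by
    intro k
    letI : Fintype k := Fintype.ofFinite k
    obtain ⟨a, -, ha⟩ := FiniteField.card k p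
    exact ⟨a, by rw [Nat.card_eq_fintype_card, ha]⟩
  have hpow : ∀ (k : Subfield F) (s : ℕ), Nat.card F = Nat.card k ^ s → s ∣ r ^ m := by
    intro k s hk
    obtain ⟨a, ha⟩ := hsub k
    rw [Nat.card_eq_fintype_card, hF, ha, ← pow_mul] at hk
    rw [Nat.pow_right_injective (by omega : 2 ≤ p) hk]
    exact dvd_mul_left s a
  -- the types
  have key : ∀ K : Subgroup (PSL F), IsCoatom K →
      (2 * Nat.card K = Fintype.card F * (Fintype.card F - 1) ∧ Bor K) ∨
      (Nat.card K = Fintype.card F - 1 ∧ Tor K) ∨ (Nat.card K = Fintype.card F + 1 ∧ Tor K) ∨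
      (2 * Nat.card K + Nat.card k₀ = Nat.card k₀ ^ 3 ∧ ∃ (k : Subfield F) (b : PGL F),
        Nat.card F = Nat.card k ^ r ∧ cj b (K.map (ta : PSL F →* PGL F)) = PS k) := by
    intro K hK
    rcases odd_psl_conj p hodd (by omega) K hK with h | ⟨h, -, h'⟩ | ⟨k, b, hk, -⟩ | ⟨k, s, b, hs, hs', hk, hb⟩ |
      ⟨-, h, -⟩ | ⟨h, -⟩ | ⟨h, -⟩
    · exact Or.inl ⟨Bor.card hodd h, h⟩
    · rcases h with ⟨-, h⟩ | ⟨-, -, h⟩
      · exact Or.inr (Or.inl ⟨h, h'⟩)
      · exact Or.inr (Or.inr (Or.inl ⟨h, h'⟩))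
    · exfalso
      have h1 := hpow k 2 hk
      exact absurd hfodd (Nat.not_odd_iff_even.2 (even_iff_two_dvd.2 h1))
    · have h1 : s = r := (Nat.prime_dvd_prime_iff_eq hs hr).1 (hs.dvd_of_dvd_pow (hpow k s hk))
      subst h1
      have h3 : Nat.card k = Nat.card k₀ := Nat.pow_left_injective hr.ne_zero (hk.symm.trans hFk₀)
      refine Or.inr (Or.inr (Or.inr ⟨?_, k, b, hk, hb⟩))
      letI : Fintype k := Fintype.ofFinite k
      have hoddk := odd_subfield hodd k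
      rw [Nat.card_eq_fintype_card] at hoddk
      have h4 := two_card_PSL (F := k) hoddk
      have h5 := card_cj b (K.map (ta : PSL F →* PGL F))
      rw [hb, card_map_ta, card_PS] at h5
      rw [h5, ← Nat.card_eq_fintype_card, h3] at h4
      exact h4
    · exfalso
      rcases h with h | ⟨h, -⟩
      · rw [hF] at h
        have h1 : r ^ m = 1 := Nat.pow_right_injective (by omega : 2 ≤ p) (h.trans (pow_one p).symm)
        omega
      · rw [hF] at h
        have h1 : r ^ m = 2 := Nat.pow_right_injective (by omega : 2 ≤ p) h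
        omega
    · exfalso
      rw [hF] at h
      have h1 : r ^ m = 1 := Nat.pow_right_injective (by omega : 2 ≤ p) (h.trans (pow_one p).symm)
      omega
    · exfalso
      rw [hF] at h
      have h1 : r ^ m = 1 := Nat.pow_right_injective (by omega : 2 ≤ p) (h.trans (pow_one p).symm)
      omega
  have conj : ∀ K K' : Subgroup (PSL F), IsCoatom K → IsCoatom K' → Nat.card K = Nat.card K' →
      ∃ g : PSL F, Subgroup.map (MulAut.conj g).toMonoidHom K = K' := by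
    intro K K' hK hK' hc
    rcases key K hK with ⟨h1, h⟩ | ⟨h1, h⟩ | ⟨h1, h⟩ | ⟨h1, k, b, hk, h⟩ <;>
    rcases key K' hK' with ⟨h1', h'⟩ | ⟨h1', h'⟩ | ⟨h1', h'⟩ | ⟨h1', k', b', hk', h'⟩ <;>
      first | omega | skip
    · exact h.conj hodd h'
    · exact h.conj hodd (by omega) h' hc
    · exact h.conj hodd (by omega) h' hc
    · exact conj_of_LC (LC_PS hodd hrodd hk hk' h h')
  refine cls_four hB hD hE hA (fun g hg => ?_) (fun g hg => ?_) (fun g hg => ?_) (fun g hg => ?_)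
    (fun g hg => ?_) (fun g hg => ?_) fun K hK => ?_
  · have := card_of_map_eq hg
    omega
  · have := card_of_map_eq hg
    omega
  · have := card_of_map_eq hg
    omega
  · have := card_of_map_eq hg
    omega
  · have := card_of_map_eq hg
    omega
  · have := card_of_map_eq hg
    omega
  · rcases key K hK with ⟨h1, -⟩ | ⟨h1, -⟩ | ⟨h1, -⟩ | ⟨h1, -⟩
    · obtain ⟨g, hg⟩ := conj B K hB hK (by omega)
      exact ⟨g, Or.inl hg⟩
    · obtain ⟨g, hg⟩ := conj E K hE hK (by omega)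
      exact ⟨g, Or.inr (Or.inr (Or.inl hg))⟩
    · obtain ⟨g, hg⟩ := conj D K hD hK (by omega)
      exact ⟨g, Or.inr (Or.inl hg)⟩
    · obtain ⟨g, hg⟩ := conj A K hA hK (by omega)
      exact ⟨g, Or.inr (Or.inr (Or.inr hg))⟩

/-- `PSL₂(p ^ (r ^ m))`, `r` an odd prime -/
theorem odd_four_pow {p r m : ℕ} [Fintype F] (hp : p.Prime) (h2 : p ≠ 2) (hr : r.Prime) (hr2 : r ≠ 2)
    (hm : 1 ≤ m) (hF : Fintype.card F = p ^ (r ^ m)) :
    Cls 4 (Matrix.ProjectiveSpecialLinearGroup (Fin 2) F) := odd_four_pow' hp h2 hr hr2 hm hF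

/-! ### Primes -/

theorem odd_four_prime' {p : ℕ} [Fintype F] (hp : p.Prime) (h3 : 3 < p)
    (h : p % 40 = 3 ∨ p % 40 = 37 ∨ p % 40 = 13 ∨ p % 40 = 27) (hF : Fintype.card F = p) : Cls 4 (PSL F) := by
  haveI : Fact p.Prime := ⟨hp⟩
  have hpodd : Odd p := hp.odd_of_ne_two (by omega)
  have hodd : Odd (Fintype.card F) := by rw [hF]; exact hpodd
  haveI : CharP F p := charP_of_card_eq_prime_pow (f := 1) (by rw [hF, pow_one])
  have h8 : p % 8 = 3 ∨ p % 8 = 5 := by omega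
  have h10 : p % 10 ≠ 1 ∧ p % 10 ≠ 9 := by omega
  have h13 : 13 ≤ p := by omega
  have hns : ¬ IsSquare (2 : F) := by
    rw [FiniteField.isSquare_two_iff, hF]
    omega
  have hmul : 13 * (Fintype.card F - 1) ≤ Fintype.card F * (Fintype.card F - 1) :=
    Nat.mul_le_mul_right _ (by omega)
  obtain ⟨B, hB, -, hBc⟩ := exists_borel hodd (by omega)
  obtain ⟨D, hD, hDc, hDe⟩ := exists_Dp hodd (by omega) (by omega)
  obtain ⟨E, hE, hEc, hEe⟩ := exists_Dm hodd (by omega)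
  obtain ⟨A, hA, hAe⟩ : ∃ A : Subgroup (PSL F), IsCoatom A ∧ Nonempty (A ≃* alternatingGroup (Fin 4)) :=
    Cfsg.Agent.S5940.result (F := F) p hF (by omega) h8 h10
  have hAc : Nat.card A = 12 := by
    obtain ⟨e⟩ := hAe
    rw [Nat.card_congr e.toEquiv, card_A4]
  -- the types
  have key : ∀ K : Subgroup (PSL F), IsCoatom K →
      (2 * Nat.card K = Fintype.card F * (Fintype.card F - 1) ∧ Bor K) ∨
      (Nat.card K = Fintype.card F - 1 ∧ Tor K ∧ ¬ Has3 K) ∨ (Nat.card K = Fintype.card F + 1 ∧ Tor K) ∨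
      (Nat.card K = 12 ∧ (∃ V : Subgroup (PSL F), IsKleinFour V ∧ K = nrm V) ∧ Has3 K) := by
    intro K hK
    rcases odd_psl_conj p hodd (by omega) K hK with h | ⟨h, ⟨e⟩, h'⟩ | ⟨k, b, hk, -⟩ | ⟨k, s, b, hs, hs', hk, hb⟩ |
      ⟨h, -, -⟩ | ⟨-, -, -, e, h⟩ | ⟨-, h, -⟩
    · exact Or.inl ⟨Bor.card hodd h, h⟩
    · rcases h with ⟨-, h⟩ | ⟨-, -, h⟩
      · refine Or.inr (Or.inl ⟨h, h', ?_⟩)
        rintro ⟨x, hx, y, hy, hx3, hy3, hxy⟩
        exact hxy (dihedral_comm_three e hx hy hx3 hy3)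
      · exact Or.inr (Or.inr (Or.inl ⟨h, h'⟩))
    · exfalso
      rw [Nat.card_eq_fintype_card, hF] at hk
      rw [hk] at hp
      exact absurd (Nat.Prime.eq_one_of_pow hp) (by norm_num)
    · exfalso
      rw [Nat.card_eq_fintype_card, hF] at hk
      rw [hk] at hp
      exact hs.one_lt.ne' (Nat.Prime.eq_one_of_pow hp)
    · exfalso
      rw [hF] at h
      omega
    · refine Or.inr (Or.inr (Or.inr ⟨?_, h, has3_A4 e⟩))
      obtain ⟨e⟩ := e
      rw [Nat.card_congr e.toEquiv, card_A4]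
    · exfalso
      omega
  have conjA : ∀ K K' : Subgroup (PSL F), (∃ V : Subgroup (PSL F), IsKleinFour V ∧ K = nrm V) →
      (∃ V : Subgroup (PSL F), IsKleinFour V ∧ K' = nrm V) →
      ∃ g : PSL F, Subgroup.map (MulAut.conj g).toMonoidHom K = K' := by
    rintro K K' ⟨V, hV, h⟩ ⟨V', hV', h'⟩
    obtain ⟨a, ha⟩ := exists_cj_eq_of_not_square hodd hns hV hV'
    refine ⟨a, ?_⟩
    rw [h, h', ← ha, ← cj_nrm]
    rfl
  have hBt : Bor B := by
    rcases key B hB with ⟨-, h⟩ | ⟨h, -⟩ | ⟨h, -⟩ | ⟨h, -⟩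
    · exact h
    · omega
    · omega
    · omega
  have hDt : Tor D := by
    rcases key D hD with ⟨h, -⟩ | ⟨h, -⟩ | ⟨-, h⟩ | ⟨h, -⟩
    · omega
    · omega
    · exact h
    · omega
  have hEt : Tor E := by
    rcases key E hE with ⟨h, -⟩ | ⟨-, h, -⟩ | ⟨h, -⟩ | ⟨h, -, h'⟩
    · omega
    · exact h
    · omega
    · exfalso
      obtain ⟨x, hx, y, hy, hx3, hy3, hxy⟩ := h'
      obtain ⟨e⟩ := hEe
      exact hxy (dihedral_comm_three e hx hy hx3 hy3)
  have hAt : ∃ V : Subgroup (PSL F), IsKleinFour V ∧ A = nrm V := by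
    rcases key A hA with ⟨h, -⟩ | ⟨-, -, h⟩ | ⟨h, -⟩ | ⟨-, h, -⟩
    · omega
    · exact absurd (has3_A4 hAe) h
    · omega
    · exact h
  refine cls_four hB hD hE hA (fun g hg => ?_) (fun g hg => ?_) (fun g hg => ?_) (fun g hg => ?_)
    (fun g hg => ?_) (fun g hg => ?_) fun K hK => ?_
  · have := card_of_map_eq hg
    omega
  · have := card_of_map_eq hg
    omega
  · have := card_of_map_eq hg
    omega
  · have := card_of_map_eq hg
    omega
  · have := card_of_map_eq hg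
    omega
  · exact not_iso_dihedral' (has3_A4 hAe) ⟨_, hEe⟩ (iso_of_map_eq hg)
  · rcases key K hK with ⟨-, h⟩ | ⟨h1, h, -⟩ | ⟨h1, h⟩ | ⟨-, h, -⟩
    · obtain ⟨g, hg⟩ := hBt.conj hodd h
      exact ⟨g, Or.inl hg⟩
    · obtain ⟨g, hg⟩ := hEt.conj hodd (by omega) h (by omega)
      exact ⟨g, Or.inr (Or.inr (Or.inl hg))⟩
    · obtain ⟨g, hg⟩ := hDt.conj hodd (by omega) h (by omega)
      exact ⟨g, Or.inr (Or.inl hg)⟩
    · obtain ⟨g, hg⟩ := conjA A K hAt h
      exact ⟨g, Or.inr (Or.inr (Or.inr hg))⟩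

theorem odd_four_prime {p : ℕ} [Fintype F] (hp : p.Prime) (h3 : 3 < p)
    (h : p % 40 = 3 ∨ p % 40 = 37 ∨ p % 40 = 13 ∨ p % 40 = 27) (hF : Fintype.card F = p) :
    Cls 4 (Matrix.ProjectiveSpecialLinearGroup (Fin 2) F) := odd_four_prime' hp h3 h hF

end Cfsg.Agent.H807.MaxPSL
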