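import Cfsg.Agent.H807.MaxPSL.Count

/-!
# `PSL₂(11)`: four classes of maximal subgroups (task of helper940, S5906, S5907)
-/

set_option autoImplicit false
set_option linter.style.haveILetI false

namespace Cfsg.Agent.H807.MaxPSL

open Matrix Cfsg.Agent.H937 Cfsg.Agent.H940.MaxCls
open Cfsg.Agent.ClassicalGeometry.PSL2Basic
open Cfsg.Agent.ClassicalGeometry.KleinCount

/-- in `A₅` an element of order three is inverted by an element -/
theorem five_inv : ∀ c : Equiv.Perm (Fin 5), Equiv.Perm.sign c = 1 → c ^ 3 = 1 →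
    ∃ t : Equiv.Perm (Fin 5), Equiv.Perm.sign t = 1 ∧ t * c * t⁻¹ = c⁻¹ := by
  decide +kernel

/-- subgroups of prime order dividing the order of the group once -/
theorem conj_zpowers {G : Type*} [Group G] [Finite G] {p m : ℕ} [hp : Fact p.Prime] (hG : Nat.card G = p * m)
    (hm : ¬ p ∣ m) {x y : G} (hx : orderOf x = p) (hy : orderOf y = p) :
    ∃ g : G, cj g (Subgroup.zpowers x) = Subgroup.zpowers y := by
  have hm0 : m ≠ 0 := by
    rintro rfl
    exact hm (dvd_zero p)
  have hf : (Nat.card G).factorization p = 1 := by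
    rw [hG, Nat.factorization_mul hp.out.ne_zero hm0, Finsupp.add_apply, hp.out.factorization_self,
      Nat.factorization_eq_zero_of_not_dvd hm]
  have hc : ∀ {z : G}, orderOf z = p → Nat.card (Subgroup.zpowers z) = p ^ (Nat.card G).factorization p := by
    intro z hz
    rw [hf, pow_one, Nat.card_zpowers, hz]
  obtain ⟨g, hg⟩ := MulAction.exists_smul_eq G (Sylow.ofCard _ (hc hx)) (Sylow.ofCard _ (hc hy))
  refine ⟨g, ?_⟩
  have h1 := congrArg (fun P : Sylow p G => (P : Subgroup G)) hg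
  exact h1

variable {F : Type*} [Field F]

theorem eleven_core [Fintype F] (hF : Fintype.card F = 11) : ∃ Q₀ Q₁ : Subgroup (PSL F),
    ∀ K : Subgroup (PSL F), Nonempty (K ≃* alternatingGroup (Fin 5)) → ∃ g : PSL F, cj g K = Q₀ ∨ cj g K = Q₁ := by
  have hodd : Odd (Fintype.card F) := by rw [hF]; decide
  have h2 : (2 : F) ≠ 0 := (two_ne_zero_iff_odd F).2 hodd
  have hns : ¬ IsSquare (2 : F) := by
    rw [FiniteField.isSquare_two_iff, hF]
    norm_num
  haveI : IsSimpleGroup (PSL F) :=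
    Matrix.ProjectiveSpecialLinearGroup.rank_two_simple (by rw [Nat.card_eq_fintype_card]; omega)
  haveI : Fact (Nat.Prime 3) := ⟨by norm_num⟩
  have hG : Nat.card (PSL F) = 3 * 220 := by
    have := two_card_PSL hodd
    rw [hF] at this
    omega
  obtain ⟨M, hM, hMc, hMe⟩ := exists_Dp hodd (by omega) (by omega)
  rw [hF] at hMe
  obtain ⟨e⟩ : Nonempty (M ≃* DihedralGroup 6) := hMe
  -- the element `c` of order three and the reflections
  obtain ⟨c, hc⟩ : ∃ c : PSL F, c = (e.symm (DihedralGroup.r 2) : M) := ⟨_, rfl⟩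
  obtain ⟨s, hs⟩ : ∃ s : ZMod 6 → PSL F, ∀ j, s j = (e.symm (DihedralGroup.sr j) : M) := ⟨_, fun _ => rfl⟩
  have hcM : c ∈ M := by rw [hc]; exact (e.symm (DihedralGroup.r 2)).2
  have hc3 : c ^ 3 = 1 := by
    rw [hc, ← Subgroup.coe_pow, ← map_pow, show (DihedralGroup.r 2 : DihedralGroup 6) ^ 3 = 1 by decide, map_one,
      Subgroup.coe_one]
  have hc1 : c ≠ 1 := by
    intro h
    rw [hc] at h
    have h1 : e.symm (DihedralGroup.r 2) = 1 := Subtype.ext h
    rw [map_eq_one_iff _ e.symm.injective] at h1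
    exact absurd h1 (by decide)
  have hco : orderOf c = 3 := orderOf_eq_prime hc3 hc1
  have hcc : c * c ≠ 1 := by
    intro h
    apply hc1
    calc c = c ^ 3 * (c * c)⁻¹ := by group
      _ = 1 := by rw [hc3, h, inv_one, mul_one]
  have hsc : ∀ j, s j * c * (s j)⁻¹ = c⁻¹ := by
    intro j
    have h1 : (DihedralGroup.sr j : DihedralGroup 6) * DihedralGroup.r 2 * (DihedralGroup.sr j)⁻¹ =
      (DihedralGroup.r 2)⁻¹ := by revert j; decide
    rw [hs, hc, ← Subgroup.coe_inv, ← Subgroup.coe_inv, ← Subgroup.coe_mul, ← Subgroup.coe_mul, ← map_inv, ← map_inv,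
      ← map_mul, ← map_mul, h1]
  have hss : ∀ j, s j * s j = 1 := by
    intro j
    have h1 : (DihedralGroup.sr j : DihedralGroup 6) * (DihedralGroup.sr j) = 1 := by revert j; decide
    rw [hs, ← Subgroup.coe_mul, ← map_mul, h1, map_one, Subgroup.coe_one]
  have hs2 : ∀ j, s j * c = s (j + 2) := by
    intro j
    have h1 : (DihedralGroup.sr j : DihedralGroup 6) * (DihedralGroup.r 2) = DihedralGroup.sr (j + 2) := by
      revert j; decide
    rw [hs, hc, hs, ← Subgroup.coe_mul, ← map_mul, h1]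
  -- the normalizer of `⟨c⟩`
  have hnM : ∀ t : PSL F, t * c * t⁻¹ = c⁻¹ → ∃ j, t = s j := by
    have hnorm : nrm (Subgroup.zpowers c) = M := by
      have h1 : M ≤ nrm (Subgroup.zpowers c) := by
        intro m hm
        rw [mem_nrm]
        have h3 : m * c * m⁻¹ = c ∨ m * c * m⁻¹ = c⁻¹ := by
          have h4 : ∀ z : DihedralGroup 6, z * DihedralGroup.r 2 * z⁻¹ = DihedralGroup.r 2 ∨
              z * DihedralGroup.r 2 * z⁻¹ = (DihedralGroup.r 2)⁻¹ := by decide
          rcases h4 (e ⟨m, hm⟩) with h | h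
          · left
            have h8 := congrArg (fun z => ((e.symm z : M) : PSL F)) h
            simp only [map_mul, map_inv, e.symm_apply_apply, Subgroup.coe_mul, Subgroup.coe_inv, ← hc] at h8
            exact h8
          · right
            have h8 := congrArg (fun z => ((e.symm z : M) : PSL F)) h
            simp only [map_mul, map_inv, e.symm_apply_apply, Subgroup.coe_mul, Subgroup.coe_inv, ← hc] at h8
            exact h8
        have h6 : cj m (Subgroup.zpowers c) = Subgroup.zpowers (m * c * m⁻¹) := by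
          rw [cj, MonoidHom.map_zpowers]
          rfl
        rw [h6]
        rcases h3 with h | h
        · rw [h]
        · rw [h, Subgroup.zpowers_inv]
      by_contra hne
      have h3 := hM.2 _ (lt_of_le_of_ne h1 (Ne.symm hne))
      rcases (Subgroup.normalizer_eq_top_iff.mp h3).eq_bot_or_eq_top with h | h
      · exact hc1 (Subgroup.zpowers_eq_bot.1 h)
      · have h4 := Nat.card_zpowers c
        rw [h, hco, Subgroup.card_top, hG] at h4
        omega
    intro t ht
    have htM : t ∈ M := by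
      rw [← hnorm, mem_nrm]
      have h6 : cj t (Subgroup.zpowers c) = Subgroup.zpowers (t * c * t⁻¹) := by
        rw [cj, MonoidHom.map_zpowers]
        rfl
      rw [h6, ht, Subgroup.zpowers_inv]
    rcases h7 : e ⟨t, htM⟩ with i | j
    · exfalso
      have h5 : t = (e.symm (DihedralGroup.r i) : M) := by rw [← h7, e.symm_apply_apply]
      have h8 : (DihedralGroup.r i : DihedralGroup 6) * DihedralGroup.r 2 * (DihedralGroup.r i)⁻¹ =
        DihedralGroup.r 2 := by
        clear h7 h5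
        revert i
        decide
      have h9 : t * c * t⁻¹ = c := by
        rw [h5, hc, ← Subgroup.coe_inv, ← Subgroup.coe_mul, ← Subgroup.coe_mul, ← map_inv, ← map_mul, ← map_mul, h8]
      rw [h9] at ht
      apply hcc
      nth_rewrite 1 [ht]
      rw [inv_mul_cancel]
    · exact ⟨j, by rw [hs, ← h7, e.symm_apply_apply]⟩
  -- the Klein four-group
  obtain ⟨V, hV, hcV⟩ : ∃ V : Subgroup (PSL F), IsKleinFour V ∧ c ∈ nrm V := by
    obtain ⟨V, hV⟩ := Cfsg.Agent.ClassicalGeometry.PSL2KleinConj.exists_isKleinFour (F := F) h2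
    have h1 : Nat.card (nrm V) = 12 := by rw [card_nrm_eq, card_nrm_inf_of_not_square hodd hns hV]
    obtain ⟨x, hx⟩ := exists_prime_orderOf_dvd_card' (G := nrm V) 3 (by rw [h1]; norm_num)
    have hx' : orderOf (x : PSL F) = 3 := by rw [Subgroup.orderOf_coe, hx]
    obtain ⟨g, hg⟩ := conj_zpowers hG (by norm_num) hx' hco
    refine ⟨cj g V, ?_, ?_⟩
    · have e1 := cjEquiv g V
      constructor
      · rw [← Nat.card_congr e1.toEquiv, hV.card_four]
      · rw [← Monoid.exponent_eq_of_mulEquiv e1, hV.exponent_two]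
    · rw [← cj_nrm]
      have h3 : c ∈ cj g (Subgroup.zpowers (x : PSL F)) := by
        rw [hg]
        exact Subgroup.mem_zpowers c
      have h4 : Subgroup.zpowers (x : PSL F) ≤ nrm V := by
        rw [Subgroup.zpowers_le]
        exact x.2
      exact cj_mono g h4 h3
  have hT : Nat.card (nrm V) = 12 := by rw [card_nrm_eq, card_nrm_inf_of_not_square hodd hns hV]
  have hVc : ∀ v ∈ V, v * v = 1 := by
    intro v hv
    have h1 : (⟨v, hv⟩ : V) ^ 2 = 1 := by
      have h3 := Monoid.pow_exponent_eq_one (⟨v, hv⟩ : V)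
      rwa [hV.exponent_two] at h3
    have h3 := congrArg Subtype.val h1
    rw [pow_two] at h3
    exact h3
  -- the reflections are not contained in `nrm V`
  have hsT : ∀ j, s j ∉ nrm V := by
    intro j hj
    have hn : ((V.subgroupOf (nrm V)) : Subgroup (nrm V)).Normal := Subgroup.normal_in_normalizer
    have hi : (V.subgroupOf (nrm V)).index = 3 := by
      have h1 := (V.subgroupOf (nrm V)).card_mul_index
      rw [hT, Nat.card_congr (Subgroup.subgroupOfEquivOfLe (le_nrm V)).toEquiv, hV.card_four] at h1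
      omega
    have h1 := Subgroup.pow_index_mem (V.subgroupOf (nrm V)) ⟨s j, hj⟩
    rw [hi, Subgroup.mem_subgroupOf] at h1
    have h3 : s j ∈ V := by
      have h4 : s j ^ 3 = s j := by
        rw [pow_succ, pow_two, hss, one_mul]
      rw [← h4]
      exact h1
    have h4 : s j * c * (s j)⁻¹ * c⁻¹ ∈ V := by
      have h5 : c * (s j)⁻¹ * c⁻¹ ∈ V := (Subgroup.mem_normalizer_iff.1 hcV _).1 (inv_mem h3)
      have h6 := mul_mem h3 h5
      have h7 : s j * (c * (s j)⁻¹ * c⁻¹) = s j * c * (s j)⁻¹ * c⁻¹ := by group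
      rwa [h7] at h6
    rw [hsc] at h4
    have h5 : c⁻¹ * c⁻¹ = c := by
      calc c⁻¹ * c⁻¹ = (c ^ 3)⁻¹ * c := by group
        _ = c := by rw [hc3, inv_one, one_mul]
    rw [h5] at h4
    exact hcc (hVc c h4)
  refine ⟨nrm V ⊔ Subgroup.zpowers (s 0), nrm V ⊔ Subgroup.zpowers (s 1), ?_⟩
  rintro K ⟨eK⟩
  obtain ⟨W, hW, hWK⟩ := alt5_klein hodd hns eK
  obtain ⟨a, ha⟩ := exists_cj_eq_of_not_square hodd hns hW hV
  have eK' : cj a K ≃* alternatingGroup (Fin 5) := (cjEquiv a K).symm.trans eK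
  have hTK : nrm V ≤ cj a K := by
    rw [← ha, ← cj_nrm]
    exact cj_mono a hWK
  have hK60 : Nat.card (cj a K) = 60 := by rw [Nat.card_congr eK'.toEquiv, card_A5]
  have hcK : c ∈ cj a K := hTK hcV
  -- the uniqueness
  have huniq : ∀ j, s j ∈ cj a K → cj a K = nrm V ⊔ Subgroup.zpowers (s j) := by
    intro j hj
    have h1 : nrm V ⊔ Subgroup.zpowers (s j) ≤ cj a K := sup_le hTK (by rw [Subgroup.zpowers_le]; exact hj)
    have h3 := Subgroup.card_dvd_of_le h1
    have h4 := Subgroup.card_dvd_of_le (le_sup_left : nrm V ≤ nrm V ⊔ Subgroup.zpowers (s j))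
    rw [hK60] at h3
    rw [hT] at h4
    have h5 : Nat.card (nrm V ⊔ Subgroup.zpowers (s j) : Subgroup (PSL F)) ≠ 12 := by
      intro h6
      have h7 : nrm V = nrm V ⊔ Subgroup.zpowers (s j) :=
        Subgroup.eq_of_le_of_card_ge le_sup_left (by rw [h6, hT])
      apply hsT j
      rw [h7]
      exact (le_sup_right : _ ≤ nrm V ⊔ Subgroup.zpowers (s j)) (Subgroup.mem_zpowers _)
    have h6 : Nat.card (nrm V ⊔ Subgroup.zpowers (s j) : Subgroup (PSL F)) = 60 := by
      obtain ⟨u, hu⟩ := h4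
      obtain ⟨v, hv⟩ := h3
      rw [hu] at hv h5 ⊢
      have hu1 : u * v = 5 := by
        have : 12 * (u * v) = 12 * 5 := by rw [← mul_assoc, ← hv]
        exact Nat.eq_of_mul_eq_mul_left (by norm_num) this
      have hud : u ∣ 5 := ⟨v, hu1.symm⟩
      rcases (Nat.dvd_prime Nat.prime_five).1 hud with h | h
      · exact absurd (by rw [h]) h5
      · rw [h]
    exact (Subgroup.eq_of_le_of_card_ge h1 (by rw [h6, hK60])).symm
  -- a reflection in `K`
  obtain ⟨t, htK, ht⟩ : ∃ t ∈ cj a K, t * c * t⁻¹ = c⁻¹ := by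
    have h1 : ((eK' ⟨c, hcK⟩ : alternatingGroup (Fin 5)) : Equiv.Perm (Fin 5)) ^ 3 = 1 := by
      rw [← Subgroup.coe_pow, ← map_pow, show (⟨c, hcK⟩ : cj a K) ^ 3 = 1 from Subtype.ext hc3, map_one,
        Subgroup.coe_one]
    obtain ⟨τ, hτ, hτ'⟩ := five_inv _ (Equiv.Perm.mem_alternatingGroup.1 (eK' ⟨c, hcK⟩).2) h1
    refine ⟨(eK'.symm ⟨τ, Equiv.Perm.mem_alternatingGroup.2 hτ⟩ : cj a K), (eK'.symm ⟨τ, _⟩).2, ?_⟩
    have h3 : (⟨τ, Equiv.Perm.mem_alternatingGroup.2 hτ⟩ : alternatingGroup (Fin 5)) * eK' ⟨c, hcK⟩ *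
      (⟨τ, Equiv.Perm.mem_alternatingGroup.2 hτ⟩)⁻¹ = (eK' ⟨c, hcK⟩)⁻¹ := Subtype.ext hτ'
    have h4 := congrArg eK'.symm h3
    rw [map_mul, map_mul, map_inv, map_inv, eK'.symm_apply_apply] at h4
    exact congrArg Subtype.val h4
  obtain ⟨j, rfl⟩ := hnM t ht
  refine ⟨a, ?_⟩
  have hj2 : s (j + 2) ∈ cj a K := by
    rw [← hs2]
    exact mul_mem htK hcK
  have hj4 : s (j + 2 + 2) ∈ cj a K := by
    rw [← hs2]
    exact mul_mem hj2 hcK
  have h6 : ∀ j : ZMod 6, j = 0 ∨ j = 1 ∨ j + 2 = 0 ∨ j + 2 = 1 ∨ j + 2 + 2 = 0 ∨ j + 2 + 2 = 1 := by decide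
  rcases h6 j with h | h | h | h | h | h
  · rw [h] at htK
    exact Or.inl (huniq 0 htK)
  · rw [h] at htK
    exact Or.inr (huniq 1 htK)
  · rw [h] at hj2
    exact Or.inl (huniq 0 hj2)
  · rw [h] at hj2
    exact Or.inr (huniq 1 hj2)
  · rw [h] at hj4
    exact Or.inl (huniq 0 hj4)
  · rw [h] at hj4
    exact Or.inr (huniq 1 hj4)

theorem odd_four_eleven' [Fintype F] (hF : Fintype.card F = 11) : Cls 4 (PSL F) := by
  have hodd : Odd (Fintype.card F) := by rw [hF]; decide
  haveI : Fact (Nat.Prime 11) := ⟨by norm_num⟩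
  haveI : CharP F 11 := charP_of_card_eq_prime_pow (f := 1) (by rw [hF, pow_one])
  obtain ⟨B, hB, -, hBc⟩ := exists_borel hodd (by omega)
  obtain ⟨D, hD, hDc, hDe⟩ := exists_Dp hodd (by omega) (by omega)
  obtain ⟨A, hA, hAe⟩ : ∃ A : Subgroup (PSL F), IsCoatom A ∧ Nonempty (A ≃* alternatingGroup (Fin 5)) :=
    Cfsg.Agent.S5939.result (F := F) 11 (Or.inl ⟨hF, by norm_num⟩)
  obtain ⟨A', hA', ⟨eA⟩, hne, -⟩ := exists_split hodd hA (norm_A5 11 (by norm_num) hodd (by omega) hA hAe)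
  have hAe' : Nonempty (A' ≃* alternatingGroup (Fin 5)) := by
    obtain ⟨e⟩ := hAe
    exact ⟨eA.symm.trans e⟩
  have hAc : Nat.card A = 60 := by
    obtain ⟨e⟩ := hAe
    rw [Nat.card_congr e.toEquiv, card_A5]
  have hAc' : Nat.card A' = 60 := by
    obtain ⟨e⟩ := hAe'
    rw [Nat.card_congr e.toEquiv, card_A5]
  rw [hF] at hBc hDc
  -- the types
  have key : ∀ K : Subgroup (PSL F), IsCoatom K →
      (Nat.card K = 55 ∧ Bor K) ∨ (Nat.card K = 12 ∧ Tor K) ∨
      (Nat.card K = 60 ∧ Nonempty (K ≃* alternatingGroup (Fin 5))) := by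
    intro K hK
    rcases odd_psl_conj 11 hodd (by omega) K hK with h | ⟨h, -, h'⟩ | ⟨k, b, hk, -⟩ | ⟨k, s, b, hs, hs', hk, hb⟩ |
      ⟨-, -, e⟩ | ⟨-, -, h, -⟩ | ⟨-, h, -⟩
    · left
      have h1 := Bor.card hodd h
      rw [hF] at h1
      exact ⟨by omega, h⟩
    · right; left
      rw [hF] at h
      exact ⟨by omega, h'⟩
    · exfalso
      have hp : Nat.Prime 11 := by norm_num
      rw [Nat.card_eq_fintype_card, hF] at hk
      rw [hk] at hp
      exact absurd (Nat.Prime.eq_one_of_pow hp) (by norm_num)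
    · exfalso
      have hp : Nat.Prime 11 := by norm_num
      rw [Nat.card_eq_fintype_card, hF] at hk
      rw [hk] at hp
      exact hs.one_lt.ne' (Nat.Prime.eq_one_of_pow hp)
    · right; right
      refine ⟨?_, e⟩
      obtain ⟨e⟩ := e
      rw [Nat.card_congr e.toEquiv, card_A5]
    · exact absurd (by norm_num) h
    · exfalso
      omega
  have hBt : Bor B := by
    rcases key B hB with ⟨-, h⟩ | ⟨h, -⟩ | ⟨h, -⟩
    · exact h
    · omega
    · omega
  have hDt : Tor D := by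
    rcases key D hD with ⟨h, -⟩ | ⟨-, h⟩ | ⟨h, -⟩
    · omega
    · exact h
    · omega
  obtain ⟨Q₀, Q₁, hQ⟩ := eleven_core hF
  have conjA : ∀ K : Subgroup (PSL F), Nonempty (K ≃* alternatingGroup (Fin 5)) →
      ∃ g : PSL F, Subgroup.map (MulAut.conj g).toMonoidHom A = K ∨
        Subgroup.map (MulAut.conj g).toMonoidHom A' = K := by
    intro K hK
    obtain ⟨a, ha⟩ := hQ A hAe
    obtain ⟨a', ha'⟩ := hQ A' hAe'
    obtain ⟨b, hb⟩ := hQ K hK
    have hback : ∀ {X Y : Subgroup (PSL F)} {u v : PSL F}, cj u X = cj v Y → cj (v⁻¹ * u) X = Y := by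
      intro X Y u v h
      rw [cj_mul, h, cj_inv_cj]
    have hsame : ∀ Q : Subgroup (PSL F), cj a A = Q → cj a' A' = Q → False := by
      intro Q h h'
      exact hne (a⁻¹ * a') (hback (h'.trans h.symm))
    rcases ha with ha | ha <;> rcases ha' with ha' | ha'
    · exact (hsame _ ha ha').elim
    · rcases hb with hb | hb
      · exact ⟨b⁻¹ * a, Or.inl (hback (ha.trans hb.symm))⟩
      · exact ⟨b⁻¹ * a', Or.inr (hback (ha'.trans hb.symm))⟩
    · rcases hb with hb | hb
      · exact ⟨b⁻¹ * a', Or.inr (hback (ha'.trans hb.symm))⟩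
      · exact ⟨b⁻¹ * a, Or.inl (hback (ha.trans hb.symm))⟩
    · exact (hsame _ ha ha').elim
  refine cls_four hB hD hA' hA (fun g hg => ?_) (fun g hg => ?_) (fun g hg => ?_) (fun g hg => ?_)
    (fun g hg => ?_) (fun g hg => hne g hg) fun K hK => ?_
  · have := card_of_map_eq hg
    omega
  · have := card_of_map_eq hg
    omega
  · have := card_of_map_eq hg
    omega
  · have := card_of_map_eq hg
    omega
  · have := card_of_map_eq hg
    omega
  · rcases key K hK with ⟨-, h⟩ | ⟨h1, h⟩ | ⟨-, h⟩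
    · obtain ⟨g, hg⟩ := hBt.conj hodd h
      exact ⟨g, Or.inl hg⟩
    · obtain ⟨g, hg⟩ := hDt.conj hodd (by omega) h (by omega)
      exact ⟨g, Or.inr (Or.inl hg)⟩
    · obtain ⟨g, hg | hg⟩ := conjA K h
      · exact ⟨g, Or.inr (Or.inr (Or.inr hg))⟩
      · exact ⟨g, Or.inr (Or.inr (Or.inl hg))⟩

theorem odd_four_eleven [Fintype F] (hF : Fintype.card F = 11) :
    Cls 4 (Matrix.ProjectiveSpecialLinearGroup (Fin 2) F) := odd_four_eleven' hF

end Cfsg.Agent.H807.MaxPSL
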