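import Cfsg.Agent.H807.MaxPSL.Tools

/-!
# `PSL₂(q)`, `q` odd: at least five classes of maximal subgroups (task of helper940, S5906, S5907)
-/

set_option autoImplicit false
set_option linter.style.haveILetI false

namespace Cfsg.Agent.H807.MaxPSL

open Matrix Cfsg.Agent.H937 Cfsg.Agent.H940.MaxCls
open Cfsg.Agent.ClassicalGeometry.PSL2Basic
open Cfsg.Agent.ClassicalGeometry.KleinCount

variable {F : Type*} [Field F]

/-- five maximal subgroups, two of them conjugate in `PGL` -/
theorem sep_split [Fintype F] (hodd : Odd (Fintype.card F)) {B D E A : Subgroup (PSL F)}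
    (hB : IsCoatom B) (hD : IsCoatom D) (hE : IsCoatom E) (hA : IsCoatom A)
    (hn : ∀ x : PGL F, cj x (A.map (ta : PSL F →* PGL F)) = A.map ta → x ∈ LL F)
    (hBD : Apart B D) (hBE : Apart B E) (hDE : Apart D E)
    (hBA : ¬ Nonempty (B ≃* A)) (hDA : ¬ Nonempty (D ≃* A)) (hEA : ¬ Nonempty (E ≃* A)) :
    Sep 5 (PSL F) := by
  obtain ⟨A', hA', ⟨e⟩, hne, -⟩ := exists_split hodd hA hn
  have key : ∀ {X : Subgroup (PSL F)}, ¬ Nonempty (X ≃* A) → ¬ Nonempty (X ≃* A') := fun h ⟨e'⟩ =>
    h ⟨e'.trans e.symm⟩
  exact sep_five hB.1 hD.1 hE.1 hA.1 hA'.1 hBD hBE (apart_of_not_iso hB hA hBA)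
    (apart_of_not_iso hB hA' (key hBA)) hDE (apart_of_not_iso hD hA hDA) (apart_of_not_iso hD hA' (key hDA))
    (apart_of_not_iso hE hA hEA) (apart_of_not_iso hE hA' (key hEA)) (apart_of_not_conj hA hA' hne)

theorem not_iso_of_card {G : Type*} [Group G] {A B : Subgroup G} (h : Nat.card A ≠ Nat.card B) :
    ¬ Nonempty (A ≃* B) := fun ⟨e⟩ => h (Nat.card_congr e.toEquiv)

/-- the numbers `x ^ 3 - x` -/
theorem cube_sub_lt {x y : ℕ} (hx : 1 ≤ x) (h : x < y) : x ^ 3 + y < y ^ 3 + x := by
  obtain ⟨s, rfl⟩ := Nat.exists_eq_add_of_lt h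
  have h4 : (x + s + 1) ^ 3 = x ^ 3 + (s + 1) * (3 * x ^ 2 + 3 * x * (s + 1) + (s + 1) ^ 2) := by ring
  have h5 : 2 ≤ 3 * x ^ 2 + 3 * x * (s + 1) + (s + 1) ^ 2 := by nlinarith
  nlinarith

theorem odd_five {p f : ℕ} [Fintype F] (hp : p.Prime) (h2 : p ≠ 2) (hf : 1 ≤ f) (hF : Fintype.card F = p ^ f)
    (h5 : 5 < p ^ f) (h7 : p ^ f ≠ 7) (h11 : p ^ f ≠ 11)
    (h1 : f = 1 → ¬ (p % 40 = 3 ∨ p % 40 = 37 ∨ p % 40 = 13 ∨ p % 40 = 27))
    (h : ¬ ∃ r m : ℕ, r.Prime ∧ r ≠ 2 ∧ 1 ≤ m ∧ f = r ^ m) :
    Sep 5 (Matrix.ProjectiveSpecialLinearGroup (Fin 2) F) := by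
  haveI : Fact p.Prime := ⟨hp⟩
  have hpodd : Odd p := hp.odd_of_ne_two h2
  have hodd : Odd (Fintype.card F) := by rw [hF]; exact hpodd.pow
  haveI : CharP F p := charP_of_card_eq_prime_pow hF
  have hq5 : 5 ≤ Fintype.card F := by omega
  obtain ⟨B, hB, -, hBc⟩ := exists_borel hodd (by omega)
  have hpodd' := Nat.odd_iff.1 hpodd
  have hodd' := Nat.odd_iff.1 hodd
  -- the order of the Borel subgroup
  have hBlt : ∀ c, 2 * c < Fintype.card F * (Fintype.card F - 1) → Nat.card B ≠ c := by
    intro c hc h
    rw [h] at hBc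
    omega
  have hmul : 6 * (Fintype.card F - 1) ≤ Fintype.card F * (Fintype.card F - 1) :=
    Nat.mul_le_mul_right _ (by omega)
  rcases Nat.even_or_odd f with he | ho
  · -- `f` even
    obtain ⟨g, hg⟩ := he
    have hg0 : g ≠ 0 := by omega
    have hFg : Nat.card F = (p ^ g) ^ 2 := by
      rw [Nat.card_eq_fintype_card, hF, hg, ← pow_mul]
      congr 1
      omega
    obtain ⟨k, hk⟩ := exists_subfield_card (F := F) (p := p) hg0 hFg
    have hFk : Nat.card F = Nat.card k ^ 2 := by rw [hk, hFg]
    have hFk' : Fintype.card F = Nat.card k ^ 2 := by rw [← Nat.card_eq_fintype_card, hFk]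
    obtain ⟨A, hA, hAc⟩ := exists_PG hodd hFk
    have hAn := norm_PG p hodd hq5 hA hFk hAc
    have hk3 : 3 ≤ Nat.card k := by
      have h3 : 1 < Nat.card k := Finite.one_lt_card
      have h4 : Nat.card k ≠ 2 := by
        intro h4
        rw [hFk', h4] at hq5
        omega
      omega
    have hA2 : Nat.card A = Nat.card k * (Fintype.card F - 1) := by
      rw [hFk', Nat.mul_sub, mul_one]
      have h3 : Nat.card k * Nat.card k ^ 2 = Nat.card k ^ 3 := by ring
      omega
    have hkF : 3 * Nat.card k ≤ Fintype.card F := by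
      rw [hFk', pow_two]
      exact Nat.mul_le_mul_right _ hk3
    have h3A : 3 * (Fintype.card F - 1) ≤ Nat.card A := by
      rw [hA2]
      exact Nat.mul_le_mul_right _ hk3
    have hBA : Nat.card B ≠ Nat.card A := by
      apply hBlt
      rw [hA2, ← mul_assoc]
      apply Nat.mul_lt_mul_of_pos_right
      · omega
      · omega
    by_cases h9 : Fintype.card F = 9
    · -- `q = 9`
      have hpf : p ^ f = 3 ^ 2 := by rw [← hF, h9]; norm_num
      have hp3 : p = 3 := by
        have h3 : p ∣ 3 ^ 2 := by rw [← hpf]; exact dvd_pow_self p (by omega)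
        exact (Nat.prime_dvd_prime_iff_eq hp Nat.prime_three).1 (hp.dvd_of_dvd_pow h3)
      subst hp3
      obtain ⟨S, hS, hSe⟩ := Cfsg.Agent.S5939.result (F := F) 3 (Or.inr ⟨by rw [h9]; norm_num, Or.inl (by norm_num)⟩)
      have hSn := norm_A5 3 (by norm_num) hodd hq5 hS hSe
      have hSc : Nat.card S = 60 := by
        obtain ⟨e⟩ := hSe
        rw [Nat.card_congr e.toEquiv, card_A5]
      have hk3' : Nat.card k = 3 := by
        rw [h9] at hkF
        omega
      have hA24 : Nat.card A = 24 := by rw [hA2, hk3', h9]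
      have hB36 : Nat.card B = 36 := by rw [h9] at hBc; omega
      obtain ⟨A', hA', ⟨e⟩, hne, -⟩ := exists_split hodd hA hAn
      obtain ⟨S', hS', ⟨e'⟩, hne', -⟩ := exists_split hodd hS hSn
      have hA24' : Nat.card A' = 24 := by rw [← Nat.card_congr e.toEquiv, hA24]
      have hSc' : Nat.card S' = 60 := by rw [← Nat.card_congr e'.toEquiv, hSc]
      have h1 : Nat.card B ≠ Nat.card A' := by omega
      have h2 : Nat.card B ≠ Nat.card S := by omega
      have h3 : Nat.card B ≠ Nat.card S' := by omega
      have h4 : Nat.card A ≠ Nat.card S := by omega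
      have h5 : Nat.card A ≠ Nat.card S' := by omega
      have h6 : Nat.card A' ≠ Nat.card S := by omega
      have h7 : Nat.card A' ≠ Nat.card S' := by omega
      exact sep_five hB.1 hA.1 hA'.1 hS.1 hS'.1
        (apart_of_coatoms hB hA hBA) (apart_of_coatoms hB hA' h1)
        (apart_of_coatoms hB hS h2) (apart_of_coatoms hB hS' h3)
        (apart_of_not_conj hA hA' hne)
        (apart_of_coatoms hA hS h4) (apart_of_coatoms hA hS' h5)
        (apart_of_coatoms hA' hS h6) (apart_of_coatoms hA' hS' h7)
        (apart_of_not_conj hS hS' hne')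
    · have hk4 : 4 ≤ Nat.card k := by
        by_contra hlt
        have h3 : Nat.card k = 3 := by omega
        rw [h3] at hFk'
        exact h9 (by rw [hFk']; norm_num)
      have h16 : 4 * 4 ≤ Fintype.card F := by
        rw [hFk', pow_two]
        exact Nat.mul_le_mul hk4 hk4
      obtain ⟨D, hD, hDc, -⟩ := exists_Dp (F := F) hodd (by omega) (by omega)
      obtain ⟨E, hE, hEc, -⟩ := exists_Dm (F := F) hodd (by omega)
      have h1 : Nat.card B ≠ Nat.card D := by
        rw [hDc]
        exact hBlt _ (by omega)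
      have h2 : Nat.card B ≠ Nat.card E := by
        rw [hEc]
        exact hBlt _ (by omega)
      have h3 : Nat.card D ≠ Nat.card E := by omega
      have h4 : Nat.card D ≠ Nat.card A := by omega
      have h5 : Nat.card E ≠ Nat.card A := by omega
      exact sep_split hodd hB hD hE hA hAn (apart_of_coatoms hB hD h1)
        (apart_of_coatoms hB hE h2) (apart_of_coatoms hD hE h3)
        (not_iso_of_card hBA) (not_iso_of_card h4) (not_iso_of_card h5)
  · by_cases hf1 : f = 1
    · subst hf1
      rw [pow_one] at *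
      have h1' := h1 rfl
      have hp5 : p % 5 ≠ 0 := by
        intro h0
        have h3 := (Nat.prime_dvd_prime_iff_eq Nat.prime_five hp).1 (Nat.dvd_of_mod_eq_zero h0)
        omega
      have hp9 : p ≠ 9 := by
        rintro rfl
        exact absurd hp (by norm_num)
      have h17 : 17 ≤ p := by
        have h15 : p ≠ 15 := by
          rintro rfl
          exact hp5 (by norm_num)
        by_contra hlt
        have : p = 13 := by omega
        rw [this] at h1'
        omega
      obtain ⟨D, hD, hDc, hDe⟩ := exists_Dp (F := F) hodd (by omega) (by omega)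
      obtain ⟨E, hE, hEc, hEe⟩ := exists_Dm (F := F) hodd (by omega)
      have hmul' : 16 * (Fintype.card F - 1) ≤ Fintype.card F * (Fintype.card F - 1) :=
        Nat.mul_le_mul_right _ (by omega)
      have hBD : Nat.card B ≠ Nat.card D := by
        rw [hDc]
        exact hBlt _ (by omega)
      have hBE : Nat.card B ≠ Nat.card E := by
        rw [hEc]
        exact hBlt _ (by omega)
      have hDE : Nat.card D ≠ Nat.card E := by omega
      by_cases h8 : p % 8 = 1 ∨ p % 8 = 7
      · obtain ⟨A, hA, hAe⟩ := Cfsg.Agent.S5938.result (F := F) p hF h8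
        have hAc : Nat.card A = 24 := by
          obtain ⟨e⟩ := hAe
          rw [Nat.card_congr e.toEquiv, card_S4]
        have h3 : Nat.card B ≠ Nat.card A := by
          rw [hAc]
          exact hBlt _ (by omega)
        exact sep_split hodd hB hD hE hA (norm_S4 p hodd hq5 hA hAe)
          (apart_of_coatoms hB hD hBD) (apart_of_coatoms hB hE hBE) (apart_of_coatoms hD hE hDE)
          (not_iso_of_card h3) (not_iso_dihedral' (has3_S4 hAe) ⟨_, hDe⟩)
          (not_iso_dihedral' (has3_S4 hAe) ⟨_, hEe⟩)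
      · have h10 : p % 10 = 1 ∨ p % 10 = 9 := by
          obtain ⟨x, hx⟩ : ∃ x : ℕ, p % 40 = x := ⟨_, rfl⟩
          have hx40 : x < 40 := hx ▸ Nat.mod_lt _ (by norm_num)
          have e8 : p % 8 = x % 8 := by rw [← hx]; exact (Nat.mod_mod_of_dvd p (by norm_num)).symm
          have e10 : p % 10 = x % 10 := by rw [← hx]; exact (Nat.mod_mod_of_dvd p (by norm_num)).symm
          have e5 : p % 5 = x % 5 := by rw [← hx]; exact (Nat.mod_mod_of_dvd p (by norm_num)).symm
          have e2 : p % 2 = x % 2 := by rw [← hx]; exact (Nat.mod_mod_of_dvd p (by norm_num)).symm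
          rw [e8] at h8
          rw [e10]
          rw [e5] at hp5
          rw [e2] at hpodd'
          rw [hx] at h1'
          clear e8 e10 e5 e2 hx
          interval_cases x <;> simp_all
        obtain ⟨A, hA, hAe⟩ := Cfsg.Agent.S5939.result (F := F) p (Or.inl ⟨hF, h10⟩)
        have hAc : Nat.card A = 60 := by
          obtain ⟨e⟩ := hAe
          rw [Nat.card_congr e.toEquiv, card_A5]
        have h3 : Nat.card B ≠ Nat.card A := by
          rw [hAc]
          exact hBlt _ (by omega)
        exact sep_split hodd hB hD hE hA (norm_A5 p (by omega) hodd hq5 hA hAe)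
          (apart_of_coatoms hB hD hBD) (apart_of_coatoms hB hE hBE) (apart_of_coatoms hD hE hDE)
          (not_iso_of_card h3) (not_iso_dihedral' (has3_A5 hAe) ⟨_, hDe⟩)
          (not_iso_dihedral' (has3_A5 hAe) ⟨_, hEe⟩)
    · -- `f` is odd and has two prime divisors
      obtain ⟨r, hr, hrf⟩ := Nat.exists_prime_and_dvd hf1
      have hr2 : r ≠ 2 := by
        rintro rfl
        exact absurd ho (Nat.not_odd_iff_even.2 (even_iff_two_dvd.2 hrf))
      obtain ⟨s, hs, hsf, hsr⟩ : ∃ s : ℕ, s.Prime ∧ s ∣ f ∧ s ≠ r := by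
        by_contra hcon
        push Not at hcon
        apply h
        have h3 : f = r ^ f.primeFactorsList.length :=
          Nat.eq_prime_pow_of_unique_prime_dvd (by omega) fun {d} hd hdf => hcon d hd hdf
        refine ⟨r, f.primeFactorsList.length, hr, hr2, ?_, h3⟩
        by_contra hlt
        have h4 : f.primeFactorsList.length = 0 := by omega
        rw [h4, pow_zero] at h3
        exact hf1 h3
      have hs2 : s ≠ 2 := by
        rintro rfl
        exact absurd ho (Nat.not_odd_iff_even.2 (even_iff_two_dvd.2 hsf))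
      have hsub : ∀ r : ℕ, r.Prime → r ≠ 2 → r ∣ f → ∃ (k : Subfield F) (A : Subgroup (PSL F)),
          Nat.card F = Nat.card k ^ r ∧ IsCoatom A ∧ 2 * Nat.card A + Nat.card k = Nat.card k ^ 3 ∧
          2 * Nat.card A < Fintype.card F := by
        intro r hr hr2 hrf
        obtain ⟨g, hg⟩ := hrf
        have hg0 : g ≠ 0 := by
          rintro rfl
          omega
        have hFg : Nat.card F = (p ^ g) ^ r := by
          rw [Nat.card_eq_fintype_card, hF, hg, ← pow_mul, mul_comm]
        obtain ⟨k, hk⟩ := exists_subfield_card (F := F) (p := p) hg0 hFg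
        have hFk : Nat.card F = Nat.card k ^ r := by rw [hk, hFg]
        obtain ⟨A, hA, hAc⟩ := exists_PS hodd hr hr2 hFk
        refine ⟨k, A, hFk, hA, hAc, ?_⟩
        have h3 : Nat.card k ^ 3 ≤ Nat.card k ^ r := by
          apply Nat.pow_le_pow_right Nat.card_pos
          have := hr.two_le
          omega
        rw [← hFk, Nat.card_eq_fintype_card (α := F)] at h3
        have h4 : 0 < Nat.card k := Nat.card_pos
        omega
      obtain ⟨k, A, hFk, hA, hAc, hAlt⟩ := hsub r hr hr2 hrf
      obtain ⟨k', A', hFk', hA', hAc', hAlt'⟩ := hsub s hs hs2 hsf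
      have hkk : Nat.card k ≠ Nat.card k' := by
        intro h3
        rw [hFk, h3] at hFk'
        have h4 : 1 < Nat.card k' := Finite.one_lt_card
        exact hsr (Nat.pow_right_injective h4 hFk').symm
      have hAA : Nat.card A ≠ Nat.card A' := by
        intro h3
        rw [h3] at hAc
        have h4 : 1 ≤ Nat.card k := Nat.card_pos
        have h5 : 1 ≤ Nat.card k' := Nat.card_pos
        rcases lt_or_gt_of_ne hkk with h6 | h6
        · have := cube_sub_lt h4 h6
          omega
        · have := cube_sub_lt h5 h6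
          omega
      have h27 : 27 ≤ Fintype.card F := by
        rw [hF]
        have hp3 : 3 ≤ p := by
          have := hp.two_le
          omega
        have hf3 : 3 ≤ f := by
          obtain ⟨j, hj⟩ := ho
          omega
        calc 27 = 3 ^ 3 := by norm_num
          _ ≤ p ^ 3 := Nat.pow_le_pow_left hp3 3
          _ ≤ p ^ f := Nat.pow_le_pow_right (by omega) hf3
      obtain ⟨D, hD, hDc, -⟩ := exists_Dp (F := F) hodd (by omega) (by omega)
      obtain ⟨E, hE, hEc, -⟩ := exists_Dm (F := F) hodd (by omega)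
      have h1 : Nat.card B ≠ Nat.card D := by
        rw [hDc]
        exact hBlt _ (by omega)
      have h2 : Nat.card B ≠ Nat.card E := by
        rw [hEc]
        exact hBlt _ (by omega)
      have h3 : Nat.card B ≠ Nat.card A := hBlt _ (by omega)
      have h4 : Nat.card B ≠ Nat.card A' := hBlt _ (by omega)
      have h5 : Nat.card D ≠ Nat.card E := by omega
      have h6 : Nat.card D ≠ Nat.card A := by omega
      have h7 : Nat.card D ≠ Nat.card A' := by omega
      have h8 : Nat.card E ≠ Nat.card A := by omega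
      have h9 : Nat.card E ≠ Nat.card A' := by omega
      exact sep_five hB.1 hD.1 hE.1 hA.1 hA'.1 (apart_of_coatoms hB hD h1)
        (apart_of_coatoms hB hE h2) (apart_of_coatoms hB hA h3) (apart_of_coatoms hB hA' h4)
        (apart_of_coatoms hD hE h5) (apart_of_coatoms hD hA h6) (apart_of_coatoms hD hA' h7)
        (apart_of_coatoms hE hA h8) (apart_of_coatoms hE hA' h9) (apart_of_coatoms hA hA' hAA)

end Cfsg.Agent.H807.MaxPSL
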