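import Cfsg.Agent.H807.MaxPSL.Types
import Cfsg.Agent.H937.Meet

/-!
# Classes of `PGL₂(q)` which split in `PSL₂(q)` (for S5906, S5907)

* `exists_split` : a maximal subgroup `M` of `PSL₂(F)` whose normalizer in `PGL₂(F)` is contained in `PSL₂(F)` has a
  `PGL₂(F)`-conjugate `M'` which is maximal and not `PSL₂(F)`-conjugate to `M`;
* `norm_klein`, `norm_PG` : the normalizers of `S₄`, `A₅`, `PGL₂(k)`;
* `cls_of_types`.
-/

set_option autoImplicit false
set_option linter.style.haveILetI false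

namespace Cfsg.Agent.H807.MaxPSL

open Matrix Cfsg.Agent.H937 Cfsg.Agent.H940.MaxCls
open Cfsg.Agent.ClassicalGeometry.PSL2Basic
open Cfsg.Agent.ClassicalGeometry.KleinCount

/-! ### General -/

section general

variable {G : Type*} [Group G]

theorem cls_of_types {n : ℕ} (T : Fin n → Subgroup G → Prop)
    (ha : ∀ i, ∃ M, IsCoatom M ∧ T i M)
    (hb : ∀ K, IsCoatom K → ∃ i, T i K)
    (hc : ∀ i K K', IsCoatom K → IsCoatom K' → T i K → T i K' →
      ∃ g : G, Subgroup.map (MulAut.conj g).toMonoidHom K = K')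
    (hd : ∀ i j, i < j → ∀ (K : Subgroup G) (g : G), T i K →
      ¬ T j (Subgroup.map (MulAut.conj g).toMonoidHom K)) : Cls n G := by
  choose M hM hT using ha
  refine Cls.of_mem M hM (fun i j hij g h => ?_) fun K hK => ?_
  · have h1 := hd i j hij (M i) g (hT i)
    rw [h] at h1
    exact h1 (hT j)
  · obtain ⟨i, hi⟩ := hb K hK
    obtain ⟨g, hg⟩ := hc i (M i) K (hM i) hK (hT i) hi
    exact ⟨i, g, hg⟩

/-- the types are determined by the orders -/
theorem cls_of_cards {n : ℕ} (c : Fin n → ℕ) (hinj : Function.Injective c)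
    (ha : ∀ i, ∃ M : Subgroup G, IsCoatom M ∧ Nat.card M = c i)
    (hb : ∀ K : Subgroup G, IsCoatom K → ∃ i, Nat.card K = c i)
    (hc : ∀ K K' : Subgroup G, IsCoatom K → IsCoatom K' → Nat.card K = Nat.card K' →
      ∃ g : G, Subgroup.map (MulAut.conj g).toMonoidHom K = K') : Cls n G := by
  refine cls_of_types (fun i K => Nat.card K = c i) ha hb (fun i K K' hK hK' h h' => hc K K' hK hK' (h.trans h'.symm))
    fun i j hij K g h h' => ?_
  rw [card_map_conj, h] at h'
  exact hij.ne (hinj h')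

theorem apart_of_not_iso {A B : Subgroup G} (hA : IsCoatom A) (hB : IsCoatom B)
    (h : ¬ Nonempty (A ≃* B)) : Apart A B := by
  intro g K h1 h2
  by_contra hK
  have e1 : K = A := by
    rcases eq_or_lt_of_le h1 with h | h
    · exact h.symm
    · exact absurd (hA.2 K h) hK
  have hBc : IsCoatom (Subgroup.map (MulAut.conj g).toMonoidHom B) :=
    (OrderIso.isCoatom_iff ((MulAut.conj g).mapSubgroup) B).2 hB
  have e2 : K = Subgroup.map (MulAut.conj g).toMonoidHom B := by
    rcases eq_or_lt_of_le (map_conj_le h2) with h | h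
    · exact h.symm
    · exact absurd (hBc.2 K h) hK
  apply h
  rw [← e1, e2]
  exact ⟨(Subgroup.equivMapOfInjective B _ (MulAut.conj g).injective).symm⟩

theorem apart_of_not_conj {A B : Subgroup G} (hA : IsCoatom A) (hB : IsCoatom B)
    (h : ∀ g : G, Subgroup.map (MulAut.conj g).toMonoidHom B ≠ A) : Apart A B := by
  intro g K h1 h2
  by_contra hK
  have e1 : K = A := by
    rcases eq_or_lt_of_le h1 with h | h
    · exact h.symm
    · exact absurd (hA.2 K h) hK
  have hBc : IsCoatom (Subgroup.map (MulAut.conj g).toMonoidHom B) :=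
    (OrderIso.isCoatom_iff ((MulAut.conj g).mapSubgroup) B).2 hB
  have e2 : K = Subgroup.map (MulAut.conj g).toMonoidHom B := by
    rcases eq_or_lt_of_le (map_conj_le h2) with h | h
    · exact h.symm
    · exact absurd (hBc.2 K h) hK
  exact h g (by rw [← e2, e1])

end general

variable {F : Type*} [Field F]

/-! ### Maximal subgroups of `LL F` -/

theorem map_comap_ta {X : Subgroup (PGL F)} (h : X ≤ LL F) :
    (X.comap (ta : PSL F →* PGL F)).map ta = X := by
  rw [Subgroup.map_comap_eq, inf_eq_right]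
  exact h

theorem coatom_of_covBy {M : Subgroup (PSL F)} (h : M.map (ta : PSL F →* PGL F) ⋖ LL F) : IsCoatom M := by
  constructor
  · rintro rfl
    apply h.lt.ne
    rw [← MonoidHom.range_eq_map]
    rfl
  · intro X hX
    by_contra hne
    refine h.2 (c := X.map ta) ?_ ?_
    · exact lt_of_le_of_ne (Subgroup.map_mono hX.le) fun e => hX.ne (Subgroup.map_injective ta_injective e)
    · refine lt_of_le_of_ne (Subgroup.map_le_range _ _) fun e => hne ?_
      apply Subgroup.map_injective ta_injective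
      rw [e, ← MonoidHom.range_eq_map]
      rfl

/-- the Borel subgroup -/
theorem exists_borel [Fintype F] (hodd : Odd (Fintype.card F)) (h3 : 3 ≤ Fintype.card F) :
    ∃ M : Subgroup (PSL F), IsCoatom M ∧ M.map (ta : PSL F →* PGL F) = BP F ⊓ LL F ∧
      2 * Nat.card M = Fintype.card F * (Fintype.card F - 1) := by
  have h1 : ((BP F ⊓ LL F).comap (ta : PSL F →* PGL F)).map ta = BP F ⊓ LL F := map_comap_ta inf_le_right
  refine ⟨(BP F ⊓ LL F).comap ta, coatom_of_covBy ?_, h1, ?_⟩
  · rw [h1]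
    exact borel_covBy hodd h3
  · rw [← card_map_ta, h1, two_card_B hodd]

theorem exists_not_mem_LL [Fintype F] (hodd : Odd (Fintype.card F)) : ∃ d : PGL F, d ∉ LL F := by
  by_contra h
  push Not at h
  exact LL_ne_top hodd (eq_top_iff.2 fun x _ => h x)

/-- splitting of classes -/
theorem exists_split [Fintype F] (hodd : Odd (Fintype.card F)) {M : Subgroup (PSL F)} (hM : IsCoatom M)
    (hn : ∀ x : PGL F, cj x (M.map (ta : PSL F →* PGL F)) = M.map ta → x ∈ LL F) :
    ∃ M' : Subgroup (PSL F), IsCoatom M' ∧ Nonempty (M ≃* M') ∧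
      (∀ g : PSL F, Subgroup.map (MulAut.conj g).toMonoidHom M' ≠ M) ∧
      ∃ b : PGL F, cj b (M.map (ta : PSL F →* PGL F)) = M'.map ta := by
  obtain ⟨d, hd⟩ := exists_not_mem_LL hodd
  have hcov : cj d (M.map (ta : PSL F →* PGL F)) ⋖ LL F := cj_covBy_normal (map_ta_covBy hM)
  have h1 := map_comap_ta (X := cj d (M.map (ta : PSL F →* PGL F))) hcov.le
  refine ⟨(cj d (M.map (ta : PSL F →* PGL F))).comap ta, coatom_of_covBy ?_, ?_, ?_, d, h1.symm⟩
  · rw [h1]
    exact hcov
  · exact ⟨((mapTaEquiv M).trans (cjEquiv d _)).trans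
      ((MulEquiv.subgroupCongr h1.symm).trans (mapTaEquiv _).symm)⟩
  · intro g hg
    obtain ⟨a, ha, h2⟩ := LC_of_conj hg
    rw [h1, ← cj_mul] at h2
    have h3 := hn _ h2
    apply hd
    have := mul_mem (inv_mem ha) h3
    rwa [inv_mul_cancel_left] at this

/-! ### Normalizers in `PGL` -/

/-- the normalizer in `PGL` of a maximal subgroup of `LL` has order `|M|` or `2 |M|` -/
theorem card_norm [Fintype F] (hodd : Odd (Fintype.card F)) (h5 : 5 ≤ Fintype.card F)
    {M : Subgroup (PSL F)} (hM : IsCoatom M) {x : PGL F} (hx : x ∉ LL F)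
    (hxM : cj x (M.map (ta : PSL F →* PGL F)) = M.map ta) :
    Nat.card (nrm (M.map (ta : PSL F →* PGL F))) = 2 * Nat.card M := by
  have hM1 : M ≠ ⊥ := by
    rintro rfl
    -- a maximal subgroup is not trivial
    have h2 : (2 : F) ≠ 0 := (two_ne_zero_iff_odd F).2 hodd
    obtain ⟨V, hV⟩ := Cfsg.Agent.ClassicalGeometry.PSL2KleinConj.exists_isKleinFour (F := F) h2
    have h3 : V = ⊤ := hM.2 V (bot_lt_iff_ne_bot.2 (by
      rintro rfl
      have := hV.card_four
      rw [Subgroup.card_bot] at this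
      omega))
    have h4 := hV.card_four
    rw [h3] at h4
    have h5' := sixty_le hodd h5
    have h6 : Nat.card (PSL F) = 4 := by
      rw [← h4]
      exact (Nat.card_congr Subgroup.topEquiv.toEquiv).symm
    omega
  haveI : IsSimpleGroup (PSL F) :=
    Matrix.ProjectiveSpecialLinearGroup.rank_two_simple (by rw [Nat.card_eq_fintype_card]; omega)
  have hN : nrm M = M := by
    by_contra hne
    have h1 := hM.2 _ (lt_of_le_of_ne (le_nrm M) (Ne.symm hne))
    rcases (Subgroup.normalizer_eq_top_iff.mp h1).eq_bot_or_eq_top with h | h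
    · exact hM1 h
    · exact hM.1 h
  have h1 : nrm (M.map (ta : PSL F →* PGL F)) ⊓ LL F = M.map ta := by
    rw [← map_nrm, hN]
  have h2 : ¬ nrm (M.map (ta : PSL F →* PGL F)) ≤ LL F := fun h => hx (h (mem_nrm.2 hxM))
  have h3 := card_inf_of_not_le (index_LL_odd hodd) h2
  rw [h1, card_map_ta] at h3
  exact h3.symm

theorem dihedral_comm_three {G : Type*} [Group G] {N : Subgroup G} {n : ℕ} (e : N ≃* DihedralGroup n)
    {x y : G} (hx : x ∈ N) (hy : y ∈ N) (hx3 : x ^ 3 = 1) (hy3 : y ^ 3 = 1) : x * y = y * x := by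
  have h1 := dihedral_three (e ⟨x, hx⟩) (e ⟨y, hy⟩)
    (by rw [← map_pow, show (⟨x, hx⟩ : N) ^ 3 = 1 from Subtype.ext hx3, map_one])
    (by rw [← map_pow, show (⟨y, hy⟩ : N) ^ 3 = 1 from Subtype.ext hy3, map_one])
  rw [← map_mul, ← map_mul] at h1
  exact congrArg Subtype.val (e.injective h1)

/-- the normalizer in `PGL` of a maximal subgroup of `LL` which contains a Klein four-group and two elements of order
three which do not commute -/
theorem norm_klein [Fintype F] (p : ℕ) [Fact p.Prime] [CharP F p] (hodd : Odd (Fintype.card F))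
    (h5 : 5 ≤ Fintype.card F) {M : Subgroup (PSL F)} (hM : IsCoatom M)
    (hV : ∃ x ∈ M, ∃ y ∈ M, CommInv x y)
    (h3 : ∃ x ∈ M, ∃ y ∈ M, x ^ 3 = 1 ∧ y ^ 3 = 1 ∧ x * y ≠ y * x)
    (hc : 2 * Nat.card M ≠ 12 ∧ 2 * Nat.card M ≠ 24 ∧ 2 * Nat.card M ≠ 60)
    (hk : ∀ k : Subfield F, 4 * Nat.card M + Nat.card k ≠ Nat.card k ^ 3 ∧
      2 * Nat.card M + Nat.card k ≠ Nat.card k ^ 3) (x : PGL F)
    (hxM : cj x (M.map (ta : PSL F →* PGL F)) = M.map ta) : x ∈ LL F := by
  by_contra hx
  have hcard := card_norm hodd h5 hM hx hxM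
  have h2 : (2 : F) ≠ 0 := (two_ne_zero_iff_odd F).2 hodd
  set H := nrm (M.map (ta : PSL F →* PGL F)) with hH
  have hMH : M.map (ta : PSL F →* PGL F) ≤ H := le_nrm _
  rcases structure_pgl p H with ⟨b, hb⟩ | ⟨c, hc', hc1, hc2⟩ | ⟨-, h1⟩ | ⟨-, ⟨e⟩⟩ | ⟨k, b, hb⟩
  · obtain ⟨u, hu, v, hv, huv⟩ := hV
    have huv' : CommInv (ta u : PGL F) (ta v) := by
      refine ⟨?_, ?_, ?_, ?_, ?_, ?_⟩
      · intro h; exact huv.hx (ta_injective (h.trans (map_one _).symm))
      · intro h; exact huv.hy (ta_injective (h.trans (map_one _).symm))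
      · intro h; exact huv.hxy (ta_injective h)
      · rw [← map_mul, huv.xx, map_one]
      · rw [← map_mul, huv.yy, map_one]
      · rw [← map_mul, ← map_mul, huv.comm]
    refine no_klein_BP h2 (x := b * ta u * b⁻¹) (y := b * ta v * b⁻¹) ?_ ?_ (cj_commInv b huv')
    · apply hb
      rw [mem_cj]
      have : b⁻¹ * (b * ta u * b⁻¹) * b = ta u := by group
      rw [this]
      exact hMH ⟨u, hu, rfl⟩
    · apply hb
      rw [mem_cj]
      have : b⁻¹ * (b * ta v * b⁻¹) * b = ta v := by group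
      rw [this]
      exact hMH ⟨v, hv, rfl⟩
  · obtain ⟨N, hN, n, -, ⟨e⟩, -⟩ := torus_case p hc1 hc2
    obtain ⟨u, hu, v, hv, hu3, hv3, huv⟩ := h3
    apply huv
    apply ta_injective
    rw [map_mul, map_mul]
    exact dihedral_comm_three e (hN (hMH ⟨u, hu, rfl⟩)) (hN (hMH ⟨v, hv, rfl⟩))
      (by rw [← map_pow, hu3, map_one]) (by rw [← map_pow, hv3, map_one])
  · rcases h1 with ⟨⟨e⟩⟩ | ⟨⟨e⟩⟩ | ⟨⟨e⟩⟩
    · exact hc.1 (by rw [← hcard, Nat.card_congr e.toEquiv, card_A4])
    · exact hc.2.1 (by rw [← hcard, Nat.card_congr e.toEquiv, card_S4])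
    · exact hc.2.2 (by rw [← hcard, Nat.card_congr e.toEquiv, card_A5])
  · exact hc.2.2 (by rw [← hcard, Nat.card_congr e.toEquiv, card_A5])
  · rcases hb with hb | hb
    · have h6 := card_cj b H
      rw [hb, hcard] at h6
      -- `2 |PS k| + |k| = |k| ^ 3`
      letI : Fintype k := Fintype.ofFinite k
      have hoddk : Odd (Fintype.card k) := by
        rw [← Nat.card_eq_fintype_card]
        exact odd_subfield hodd k
      have h7 := two_card_PSL (F := k) hoddk
      rw [← card_PS, h6, ← Nat.card_eq_fintype_card] at h7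
      exact (hk k).1 (by rw [← h7]; ring)
    · have h6 := card_cj b H
      rw [hb, hcard] at h6
      have h7 := card_cube k
      rw [h6] at h7
      exact (hk k).2 h7

/-- the normalizer of `PG k`, `|F| = |k| ^ 2` -/
theorem norm_PG [Fintype F] (p : ℕ) [Fact p.Prime] [CharP F p] (hodd : Odd (Fintype.card F))
    (h5 : 5 ≤ Fintype.card F) {M : Subgroup (PSL F)} (hM : IsCoatom M) {k : Subfield F}
    (hk : Nat.card F = Nat.card k ^ 2) (hMk : Nat.card M + Nat.card k = Nat.card k ^ 3) (x : PGL F)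
    (hxM : cj x (M.map (ta : PSL F →* PGL F)) = M.map ta) : x ∈ LL F := by
  by_contra hx
  have hcard := card_norm hodd h5 hM hx hxM
  set H := nrm (M.map (ta : PSL F →* PGL F)) with hH
  have hp : p.Prime := Fact.out
  letI : Fintype k := Fintype.ofFinite k
  have hoddk := odd_subfield hodd k
  have hk1 : 1 < Nat.card k := Finite.one_lt_card
  -- prime powers
  have hpow : ∀ k' : Subfield F, ∃ a : ℕ, 1 ≤ a ∧ Nat.card k' = p ^ a := by
    intro k'
    letI : Fintype k' := Fintype.ofFinite k'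
    obtain ⟨a, -, ha⟩ := FiniteField.card k' p
    exact ⟨a, a.pos, by rw [Nat.card_eq_fintype_card, ha]⟩
  obtain ⟨a, ha1, ha⟩ := hpow k
  have hp3 : 3 ≤ p := by
    have h2 := hp.two_le
    by_contra hlt
    have h3 : p = 2 := by omega
    rw [ha, h3] at hoddk
    exact absurd hoddk (Nat.not_odd_iff_even.2 (even_two.pow_of_ne_zero (by omega)))
  have hk3 : 3 ≤ Nat.card k := by
    rw [ha]
    calc 3 ≤ p ^ 1 := by rw [pow_one]; exact hp3
      _ ≤ p ^ a := Nat.pow_le_pow_right (by omega) ha1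
  have hpk : p ∣ Nat.card k := by
    rw [ha]
    exact dvd_pow_self p (by omega)
  have hkM : Nat.card k ∣ Nat.card M := by
    have h1 : Nat.card k ∣ Nat.card M + Nat.card k := by
      rw [hMk]
      exact dvd_pow_self _ (by norm_num)
    exact (Nat.dvd_add_left dvd_rfl).1 h1
  have hF : Fintype.card F = Nat.card k ^ 2 := by rw [← Nat.card_eq_fintype_card, hk]
  have hM2 : Nat.card M = Nat.card k * (Nat.card k ^ 2 - 1) := by
    have h1 : 1 ≤ Nat.card k ^ 2 := Nat.one_le_pow _ _ (by omega)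
    rw [Nat.mul_sub, mul_one]
    have h2 : Nat.card k * Nat.card k ^ 2 = Nat.card k ^ 3 := by ring
    omega
  have hcop : Nat.Coprime (Nat.card k) 2 := by
    rw [Nat.coprime_two_right]
    exact hoddk
  rcases structure_pgl p H with ⟨b, hb⟩ | ⟨c, hc', hc1, hc2⟩ | ⟨h0, -⟩ | ⟨-, ⟨e⟩⟩ | ⟨k', b, hb⟩
  · have h1 := Subgroup.card_dvd_of_le hb
    rw [card_cj, hcard, card_BP, hM2, hF] at h1
    have h2 : Nat.card k ^ 2 * (Nat.card k ^ 2 - 1) =
        (Nat.card k * (Nat.card k ^ 2 - 1)) * Nat.card k := by ring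
    rw [h2, mul_comm 2] at h1
    have hpos : 0 < Nat.card k * (Nat.card k ^ 2 - 1) := by
      have : 1 < Nat.card k ^ 2 := Nat.one_lt_pow (by norm_num) hk1
      exact Nat.mul_pos (by omega) (by omega)
    have h3 := Nat.dvd_of_mul_dvd_mul_left hpos h1
    exact absurd hoddk (Nat.not_odd_iff_even.2 ((even_iff_two_dvd).2 h3))
  · obtain ⟨N, hN, n, hn, ⟨e⟩, -⟩ := torus_case p hc1 hc2
    have h1 := Subgroup.card_dvd_of_le hN
    rw [hcard, Nat.card_congr e.toEquiv, DihedralGroup.nat_card] at h1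
    have h2 : Nat.card k ∣ n := (hkM.trans (Nat.dvd_of_mul_dvd_mul_left (by norm_num) h1))
    rcases hn with rfl | rfl
    · rw [hF] at h2
      have h3 : Nat.card k ∣ 1 := by
        have h4 : 1 ≤ Nat.card k ^ 2 := Nat.one_le_pow _ _ (by omega)
        have h5 := Nat.dvd_sub (dvd_pow_self (Nat.card k) (two_ne_zero)) h2
        have h6 : Nat.card k ^ 2 - (Nat.card k ^ 2 - 1) = 1 := by omega
        rwa [h6] at h5
      have := Nat.le_of_dvd one_pos h3
      omega
    · rw [hF] at h2
      have h3 : Nat.card k ∣ 1 := (Nat.dvd_add_right (dvd_pow_self (Nat.card k) (two_ne_zero))).1 h2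
      have := Nat.le_of_dvd one_pos h3
      omega
  · apply h0
    rw [hcard]
    exact (hpk.trans hkM).mul_left 2
  · have h1 : 2 * Nat.card M = 60 := by rw [← hcard, Nat.card_congr e.toEquiv, card_A5]
    have h2 : Nat.card M = 30 := by omega
    rw [h2] at hMk
    have h3 : Nat.card k < 4 := by
      by_contra h4
      have h5 : 4 ≤ Nat.card k := by omega
      generalize Nat.card k = z at *
      have h6 : 4 * z ^ 2 ≤ z ^ 3 := by
        rw [pow_succ z 2, mul_comm]
        exact Nat.mul_le_mul_left _ h5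
      nlinarith
    generalize Nat.card k = z at *
    interval_cases z
    omega
  · obtain ⟨a', ha1', ha'⟩ := hpow k'
    have h1 : 2 * (2 * Nat.card M) + Nat.card k' = Nat.card k' ^ 3 ∨
        2 * Nat.card M + Nat.card k' = Nat.card k' ^ 3 := by
      rcases hb with hb | hb
      · left
        have h6 := card_cj b H
        rw [hb, hcard] at h6
        letI : Fintype k' := Fintype.ofFinite k'
        have hoddk' : Odd (Fintype.card k') := by
          rw [← Nat.card_eq_fintype_card]
          exact odd_subfield hodd k'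
        have h7 := two_card_PSL (F := k') hoddk'
        rw [← card_PS, h6, ← Nat.card_eq_fintype_card] at h7
        exact h7
      · right
        have h6 := card_cj b H
        rw [hb, hcard] at h6
        have h7 := card_cube k'
        rw [h6] at h7
        exact h7
    have hlt : Nat.card k < Nat.card k' := by
      by_contra hle
      push Not at hle
      have h2 : Nat.card k' * (Nat.card k' ^ 2 - 1) ≤ Nat.card k * (Nat.card k ^ 2 - 1) :=
        Nat.mul_le_mul hle (Nat.sub_le_sub_right (Nat.pow_le_pow_left hle 2) 1)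
      have h3 : 1 ≤ Nat.card k' ^ 2 := Nat.one_le_pow _ _ Nat.card_pos
      have h4 : Nat.card k' * (Nat.card k' ^ 2 - 1) + Nat.card k' = Nat.card k' ^ 3 := by
        rw [Nat.mul_sub, mul_one]
        have h5 : Nat.card k' * Nat.card k' ^ 2 = Nat.card k' ^ 3 := by ring
        have h6 : Nat.card k' ≤ Nat.card k' * Nat.card k' ^ 2 := Nat.le_mul_of_pos_right _ h3
        omega
      have h7 : 0 < Nat.card M := Nat.card_pos
      rw [← hM2] at h2
      omega
    have h3k : 3 * Nat.card k ≤ Nat.card k' := by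
      rw [ha, ha'] at hlt ⊢
      have h2 := (Nat.pow_lt_pow_iff_right (by omega)).1 hlt
      calc 3 * p ^ a ≤ p * p ^ a := Nat.mul_le_mul_right _ hp3
        _ = p ^ (a + 1) := by rw [pow_succ]; ring
        _ ≤ p ^ a' := Nat.pow_le_pow_right (by omega) h2
    have h27 : 27 * Nat.card k ^ 3 ≤ Nat.card k' ^ 3 := by
      calc 27 * Nat.card k ^ 3 = (3 * Nat.card k) ^ 3 := by ring
        _ ≤ _ := Nat.pow_le_pow_left h3k 3
    have hk'3 : 3 ≤ Nat.card k' := by omega
    have h9 : 9 * Nat.card k' ≤ Nat.card k' ^ 3 := by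
      have : Nat.card k' ^ 3 = Nat.card k' ^ 2 * Nat.card k' := by ring
      rw [this]
      apply Nat.mul_le_mul_right
      calc 9 = 3 ^ 2 := by norm_num
        _ ≤ _ := Nat.pow_le_pow_left hk'3 2
    omega

end Cfsg.Agent.H807.MaxPSL
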