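import Cfsg.Agent.H807.MaxPSL.Split
import Cfsg.Agent.H937.Meet3
import Cfsg.Agent.S0811
import Cfsg.Agent.S0812
import Cfsg.Agent.S5938
import Cfsg.Agent.S5939
import Cfsg.Agent.S5941
import Cfsg.Agent.S5942

/-!
# Maximal subgroups of `PSL₂(q)`, `q` odd: existence (for S5906, S5907)
-/

set_option autoImplicit false
set_option linter.style.haveILetI false

namespace Cfsg.Agent.H807.MaxPSL

open Matrix Cfsg.Agent.H937 Cfsg.Agent.H940.MaxCls
open Cfsg.Agent.ClassicalGeometry.PSL2Basic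
open Cfsg.Agent.ClassicalGeometry.KleinCount

/-! ### Subgroups isomorphic to `S₄`, `A₅`, dihedral groups -/

section general

variable {G : Type*} [Group G]

theorem commInv_map {H : Type*} [Group H] {f : G →* H} (hf : Function.Injective f) {x y : G}
    (h : CommInv x y) : CommInv (f x) (f y) := by
  refine ⟨?_, ?_, ?_, ?_, ?_, ?_⟩
  · intro h1; exact h.hx (hf (h1.trans (map_one _).symm))
  · intro h1; exact h.hy (hf (h1.trans (map_one _).symm))
  · intro h1; exact h.hxy (hf h1)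
  · rw [← map_mul, h.xx, map_one]
  · rw [← map_mul, h.yy, map_one]
  · rw [← map_mul, ← map_mul, h.comm]

theorem commInv_of_map {H : Type*} [Group H] {f : G →* H} (hf : Function.Injective f) {x y : G}
    (h : CommInv (f x) (f y)) : CommInv x y := by
  refine ⟨?_, ?_, ?_, ?_, ?_, ?_⟩
  · rintro rfl; exact h.hx (map_one _)
  · rintro rfl; exact h.hy (map_one _)
  · rintro rfl; exact h.hxy rfl
  · apply hf; rw [map_mul, h.xx, map_one]
  · apply hf; rw [map_mul, h.yy, map_one]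
  · apply hf; rw [map_mul, map_mul, h.comm]

/-- `M` contains a Klein four-group -/
def HasK (M : Subgroup G) : Prop := ∃ x ∈ M, ∃ y ∈ M, CommInv x y

/-- `M` contains two elements of order three which do not commute -/
def Has3 (M : Subgroup G) : Prop := ∃ x ∈ M, ∃ y ∈ M, x ^ 3 = 1 ∧ y ^ 3 = 1 ∧ x * y ≠ y * x

theorem HasK.of_equiv {H : Type*} [Group H] {M : Subgroup G} (e : H ≃* M) {x y : H} (h : CommInv x y) :
    HasK M :=
  ⟨e x, (e x).2, e y, (e y).2, commInv_map (f := M.subtype.comp e.toMonoidHom)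
    (M.subtype_injective.comp e.injective) h⟩

theorem Has3.of_equiv {H : Type*} [Group H] {M : Subgroup G} (e : H ≃* M) {x y : H} (hx : x ^ 3 = 1)
    (hy : y ^ 3 = 1) (h : x * y ≠ y * x) : Has3 M := by
  refine ⟨e x, (e x).2, e y, (e y).2, ?_, ?_, ?_⟩
  · rw [← Subgroup.coe_pow, ← map_pow, hx, map_one, Subgroup.coe_one]
  · rw [← Subgroup.coe_pow, ← map_pow, hy, map_one, Subgroup.coe_one]
  · intro h1
    apply h
    apply e.injective
    apply Subtype.ext
    rw [map_mul, map_mul]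
    exact h1

theorem hasK_S4 {M : Subgroup G} (e : Nonempty (M ≃* Equiv.Perm (Fin 4))) : HasK M := by
  obtain ⟨e⟩ := e
  exact HasK.of_equiv e.symm pab

theorem has3_S4 {M : Subgroup G} (e : Nonempty (M ≃* Equiv.Perm (Fin 4))) : Has3 M := by
  obtain ⟨e⟩ := e
  exact Has3.of_equiv e.symm px_cube py_cube pxy_ne

/-- another three-cycle -/
def qy : Equiv.Perm (Fin 5) := Equiv.swap 1 2 * Equiv.swap 2 3

theorem qy_mem : qy ∈ alternatingGroup (Fin 5) := by
  rw [Equiv.Perm.mem_alternatingGroup]; decide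

theorem hasK_A5 {M : Subgroup G} (e : Nonempty (M ≃* alternatingGroup (Fin 5))) : HasK M := by
  obtain ⟨e⟩ := e
  exact HasK.of_equiv e.symm (x := ⟨qa, qa_mem⟩) (y := ⟨qb, qb_mem⟩)
    (commInv_of_map (f := (alternatingGroup (Fin 5)).subtype) (Subgroup.subtype_injective _) qab)

theorem has3_A5 {M : Subgroup G} (e : Nonempty (M ≃* alternatingGroup (Fin 5))) : Has3 M := by
  obtain ⟨e⟩ := e
  refine Has3.of_equiv e.symm (x := ⟨qx, qx_mem⟩) (y := ⟨qy, qy_mem⟩) (Subtype.ext (by decide : qx ^ 3 = 1))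
    (Subtype.ext (by decide : qy ^ 3 = 1)) ?_
  intro h
  exact absurd (congrArg Subtype.val h) (by decide : qx * qy ≠ qy * qx)

theorem not_iso_dihedral {A B : Subgroup G} (hA : Has3 A) (hB : ∃ n, Nonempty (B ≃* DihedralGroup n)) :
    ¬ Nonempty (A ≃* B) := by
  rintro ⟨e⟩
  obtain ⟨n, ⟨e'⟩⟩ := hB
  obtain ⟨x, hx, y, hy, hx3, hy3, hxy⟩ := hA
  exact hxy (dihedral_comm_three (e.trans e') hx hy hx3 hy3)

theorem not_iso_dihedral' {A B : Subgroup G} (hA : Has3 A) (hB : ∃ n, Nonempty (B ≃* DihedralGroup n)) :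
    ¬ Nonempty (B ≃* A) := fun ⟨e⟩ => not_iso_dihedral hA hB ⟨e.symm⟩

end general

variable {F : Type*} [Field F]

theorem gcd_odd {q : ℕ} (hodd : Odd q) : Nat.gcd 2 (q - 1) = 2 := by
  apply Nat.gcd_eq_left
  obtain ⟨j, hj⟩ := hodd
  exact ⟨j, by omega⟩

theorem exists_Dp [Fintype F] (hodd : Odd (Fintype.card F)) (h7 : Fintype.card F ≠ 7) (h9 : Fintype.card F ≠ 9) :
    ∃ M : Subgroup (PSL F), IsCoatom M ∧ Nat.card M = Fintype.card F + 1 ∧
      Nonempty (M ≃* DihedralGroup ((Fintype.card F + 1) / 2)) := by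
  obtain ⟨H, h1, ⟨e⟩⟩ := Cfsg.Agent.S0811.result (F := F) rfl (by
    intro h
    simp only [Finset.mem_insert, Finset.mem_singleton] at h
    rcases h with h | h | h
    · rw [h] at hodd; exact absurd hodd (by decide)
    · exact h7 h
    · exact h9 h)
  rw [gcd_odd hodd] at e
  refine ⟨H, h1, ?_, ⟨e⟩⟩
  rw [Nat.card_congr e.toEquiv, DihedralGroup.nat_card]
  obtain ⟨j, hj⟩ := hodd
  omega

theorem exists_Dm [Fintype F] (hodd : Odd (Fintype.card F)) (h13 : 13 ≤ Fintype.card F) :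
    ∃ M : Subgroup (PSL F), IsCoatom M ∧ Nat.card M = Fintype.card F - 1 ∧
      Nonempty (M ≃* DihedralGroup ((Fintype.card F - 1) / 2)) := by
  obtain ⟨H, h1, ⟨e⟩⟩ := Cfsg.Agent.S0812.result (F := F) rfl (by
    intro h
    simp only [Finset.mem_insert, Finset.mem_singleton] at h
    omega)
  rw [gcd_odd hodd] at e
  refine ⟨H, h1, ?_, ⟨e⟩⟩
  rw [Nat.card_congr e.toEquiv, DihedralGroup.nat_card]
  obtain ⟨j, hj⟩ := hodd
  omega

/-- `PGL₂(k)`, `|F| = |k| ^ 2` -/
theorem exists_PG [Fintype F] (hodd : Odd (Fintype.card F)) {k : Subfield F} (hk : Nat.card F = Nat.card k ^ 2) :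
    ∃ M : Subgroup (PSL F), IsCoatom M ∧ Nat.card M + Nat.card k = Nat.card k ^ 3 := by
  letI : Fintype k := Fintype.ofFinite k
  have hoddk := odd_subfield hodd k
  rw [Nat.card_eq_fintype_card] at hoddk
  obtain ⟨H, h1, ⟨e⟩⟩ := Cfsg.Agent.S5941.result (F := F) (K := k) (Fintype.card k) rfl
    (by rw [← Nat.card_eq_fintype_card, hk, Nat.card_eq_fintype_card]) hoddk
  refine ⟨H, h1, ?_⟩
  rw [Nat.card_congr e.toEquiv, Nat.card_eq_fintype_card (α := k)]
  exact card_PGL_cube (F := k)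

/-- `PSL₂(k)`, `|F| = |k| ^ r`, `r` an odd prime -/
theorem exists_PS [Fintype F] (hodd : Odd (Fintype.card F)) {k : Subfield F} {r : ℕ} (hr : r.Prime) (hr2 : r ≠ 2)
    (hk : Nat.card F = Nat.card k ^ r) :
    ∃ M : Subgroup (PSL F), IsCoatom M ∧ 2 * Nat.card M + Nat.card k = Nat.card k ^ 3 := by
  letI : Fintype k := Fintype.ofFinite k
  have hoddk := odd_subfield hodd k
  rw [Nat.card_eq_fintype_card] at hoddk
  obtain ⟨H, h1, ⟨e⟩⟩ := Cfsg.Agent.S5942.result (F := F) (K := k) (Fintype.card k) r rfl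
    (by rw [← Nat.card_eq_fintype_card, hk, Nat.card_eq_fintype_card]) hoddk hr hr2
  refine ⟨H, h1, ?_⟩
  rw [Nat.card_congr e.toEquiv, Nat.card_eq_fintype_card (α := k)]
  exact two_card_PSL (F := k) hoddk

theorem norm_S4 [Fintype F] (p : ℕ) [Fact p.Prime] [CharP F p] (hodd : Odd (Fintype.card F))
    (h5 : 5 ≤ Fintype.card F) {M : Subgroup (PSL F)} (hM : IsCoatom M) (e : Nonempty (M ≃* Equiv.Perm (Fin 4)))
    (x : PGL F) (hxM : cj x (M.map (ta : PSL F →* PGL F)) = M.map ta) : x ∈ LL F := by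
  have hc : Nat.card M = 24 := by
    obtain ⟨e⟩ := e
    rw [Nat.card_congr e.toEquiv, card_S4]
  refine norm_klein p hodd h5 hM (hasK_S4 e) (has3_S4 e) (by rw [hc]; norm_num) (fun k => ?_) x hxM
  rw [hc]
  generalize Nat.card k = z
  have key : ∀ z : ℕ, 6 ≤ z → 96 + z < z ^ 3 := by
    intro z hz
    have : z ^ 3 = z * (z * z) := by ring
    have h1 : 36 ≤ z * z := Nat.mul_le_mul hz hz
    rw [this]
    nlinarith
  by_cases hz : 6 ≤ z
  · have := key z hz
    omega
  · interval_cases z <;> omega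

theorem norm_A5 [Fintype F] (p : ℕ) [Fact p.Prime] [CharP F p] (hp5 : p ≠ 5) (hodd : Odd (Fintype.card F))
    (h5 : 5 ≤ Fintype.card F) {M : Subgroup (PSL F)} (hM : IsCoatom M)
    (e : Nonempty (M ≃* alternatingGroup (Fin 5)))
    (x : PGL F) (hxM : cj x (M.map (ta : PSL F →* PGL F)) = M.map ta) : x ∈ LL F := by
  have hc : Nat.card M = 60 := by
    obtain ⟨e⟩ := e
    rw [Nat.card_congr e.toEquiv, card_A5]
  refine norm_klein p hodd h5 hM (hasK_A5 e) (has3_A5 e) (by rw [hc]; norm_num) (fun k => ?_) x hxM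
  rw [hc]
  have hk5 : Nat.card k ≠ 5 := by
    intro h
    letI : Fintype k := Fintype.ofFinite k
    obtain ⟨a, -, ha⟩ := FiniteField.card k p
    rw [← Nat.card_eq_fintype_card, h] at ha
    have h1 : p ∣ 5 := by
      rw [ha]
      exact dvd_pow_self p a.ne_zero
    exact hp5 ((Nat.prime_dvd_prime_iff_eq Fact.out Nat.prime_five).1 h1)
  generalize Nat.card k = z at *
  have key : ∀ z : ℕ, 7 ≤ z → 240 + z < z ^ 3 := by
    intro z hz
    have : z ^ 3 = z * (z * z) := by ring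
    have h1 : 49 ≤ z * z := Nat.mul_le_mul hz hz
    rw [this]
    nlinarith
  by_cases hz : 7 ≤ z
  · have := key z hz
    omega
  · interval_cases z <;> omega

end Cfsg.Agent.H807.MaxPSL
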